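import Cfsg.Agent.Lib.OddOrder.PrimeDade.Chars
import Cfsg.Agent.Lib.Isometry.DadeGen

/-!
# Peterfalvi (4.6): the prime Dade hypothesis

`M ≤ G`, `K ◁ M` with cyclic complement `W₁`, `W₂ ≤ H ≤ K` and a Dade set `A` of `M` containing
`W ∖ (W₁ ∪ W₂)` and the elements of `K#` centralizing a non-trivial element of `H`.
-/

set_option autoImplicit false
set_option linter.style.haveILetI false

namespace Cfsg.Agent.Lib.OddOrder.PrimeDade

open scoped ComplexConjugate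
open Cfsg.Agent.Lib.CyclicTI Cfsg.Agent.Lib.Isometry
open Cfsg.Agent.Lib.Induced.Basic Cfsg.Agent.Lib.Characters.Basic

universe u

variable {G : Type u} [Group G] [Fintype G]

/-- The prime Dade hypothesis. -/
structure Hyp (M : Subgroup G) (K H : Subgroup M) (W₁ W₂ : Subgroup G) (A : Set G)
    (R : G → Subgroup G) : Prop where
  le₁ : W₁ ≤ M
  le₂ : W₂ ≤ M
  K_normal : K.Normal
  H_normal : H.Normal
  plike : IsPLike K (W₁.subgroupOf M) (W₂.subgroupOf M)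
  selfNormalizing : Cfsg.IsSelfNormalizingCyclic W₁ W₂
  le_H : W₂.subgroupOf M ≤ H
  H_le : H ≤ K
  odd : Odd (Nat.card M)
  dade : Cfsg.DadeHypothesis A M R
  mem_cyclic : ∀ w ∈ W₁ ⊔ W₂, w ∉ W₁ → w ∉ W₂ → w ∈ A
  mem_cent : ∀ x : M, x ∈ K → x ≠ 1 → (∃ n ∈ H, n ≠ 1 ∧ n * x = x * n) → (x : G) ∈ A

/-- The inclusion of `W` inside `M` into `W`. -/
def toG (M W₁ W₂ : Subgroup G) :
    ↥(W₁.subgroupOf M ⊔ W₂.subgroupOf M) →* ↥(W₁ ⊔ W₂) where
  toFun x := ⟨((x : M) : G), by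
    have hle : W₁.subgroupOf M ⊔ W₂.subgroupOf M ≤ (W₁ ⊔ W₂).subgroupOf M :=
      sup_le (fun y hy => Subgroup.mem_sup_left (T := W₂) hy)
        (fun y hy => Subgroup.mem_sup_right (S := W₁) hy)
    exact hle x.2⟩
  map_one' := rfl
  map_mul' _ _ := rfl

/-- A linear character of `W`, read inside `M`. -/
def pull {M W₁ W₂ : Subgroup G} (ω : ↥(W₁ ⊔ W₂) →* ℂˣ) :
    ↥(W₁.subgroupOf M ⊔ W₂.subgroupOf M) →* ℂˣ :=
  ω.comp (toG M W₁ W₂)

variable {M W₁ W₂ : Subgroup G}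

theorem pull_mul (φ ψ : ↥(W₁ ⊔ W₂) →* ℂˣ) :
    pull (M := M) (φ * ψ) = pull φ * pull ψ := rfl

theorem pull_one : pull (M := M) (1 : ↥(W₁ ⊔ W₂) →* ℂˣ) = 1 := rfl

theorem pull_inv (ψ : ↥(W₁ ⊔ W₂) →* ℂˣ) : pull (M := M) ψ⁻¹ = (pull ψ)⁻¹ := rfl

theorem toG_coe (x : ↥(W₁.subgroupOf M ⊔ W₂.subgroupOf M)) :
    (toG M W₁ W₂ x : G) = ((x : M) : G) := rfl

theorem toG_bijective (h₁ : W₁ ≤ M) (h₂ : W₂ ≤ M) : Function.Bijective (toG M W₁ W₂) := by
  refine ⟨fun a b e => Subtype.ext (Subtype.ext ?_), fun w => ?_⟩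
  · simpa [toG_coe] using congrArg (fun w : ↥(W₁ ⊔ W₂) => (w : G)) e
  refine ⟨⟨⟨w, sup_le h₁ h₂ w.2⟩, ?_⟩, Subtype.ext rfl⟩
  rw [← Subgroup.subgroupOf_sup h₁ h₂]
  exact w.2

theorem pull_bijective (h₁ : W₁ ≤ M) (h₂ : W₂ ≤ M) :
    Function.Bijective (pull (M := M) (W₁ := W₁) (W₂ := W₂)) := by
  set e := MulEquiv.ofBijective _ (toG_bijective h₁ h₂)
  refine ⟨fun a b hab => MonoidHom.ext fun w => ?_, fun ω => ⟨ω.comp e.symm.toMonoidHom, ?_⟩⟩
  · have := DFunLike.congr_fun hab (e.symm w)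
    simp only [pull, MonoidHom.comp_apply] at this
    rwa [show toG M W₁ W₂ (e.symm w) = w from e.apply_symm_apply w] at this
  · refine MonoidHom.ext fun w => ?_
    simp only [pull, MonoidHom.comp_apply]
    exact congrArg ω (e.symm_apply_apply w)

theorem isP_pull (h₁ : W₁ ≤ M) (h₂ : W₂ ≤ M) {φ : ↥(W₁ ⊔ W₂) →* ℂˣ} :
    IsP (pull (M := M) φ) ↔ IsP φ := by
  refine ⟨fun h w hw => ?_, fun h x hx => h _ hx⟩
  obtain ⟨x, rfl⟩ := (toG_bijective h₁ h₂).2 w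
  exact h x hw

theorem isQ_pull (h₁ : W₁ ≤ M) (h₂ : W₂ ≤ M) {φ : ↥(W₁ ⊔ W₂) →* ℂˣ} :
    IsQ (pull (M := M) φ) ↔ IsQ φ := by
  refine ⟨fun h w hw => ?_, fun h x hx => h _ hx⟩
  obtain ⟨x, rfl⟩ := (toG_bijective h₁ h₂).2 w
  exact h x hw

namespace Hyp

variable {M : Subgroup G} {K H : Subgroup M} {W₁ W₂ : Subgroup G} {A : Set G}
  {R : G → Subgroup G}

theorem odd_W (h : Hyp M K H W₁ W₂ A R) : Odd (Nat.card ↥(W₁ ⊔ W₂)) :=
  h.odd.of_dvd_nat (Subgroup.card_dvd_of_le (sup_le h.le₁ h.le₂))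

theorem dade_one [Fintype M] (h : Hyp M K H W₁ W₂ A R) (α : M → ℂ) :
    Cfsg.dadeIsometry A M R α 1 = 0 := by
  refine Dade.dadeIsometry_eq_zero ?_
  rintro ⟨a, ha, u, hu, x, e⟩
  rw [mul_one, mul_inv_cancel] at e
  have hau : a⁻¹ = u := inv_eq_of_mul_eq_one_right e.symm
  have hm : a ∈ R a ⊓ (M ⊓ Subgroup.centralizer ({a} : Set G)) := by
    refine ⟨?_, h.dade.subset ha, Subgroup.mem_centralizer_singleton_iff.2 rfl⟩
    rw [← hau] at hu
    simpa using (R a).inv_mem hu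
  rw [h.dade.inf_eq_bot a ha, Subgroup.mem_bot] at hm
  exact h.dade.one_not_mem (hm ▸ ha)

theorem dade_add (A : Set G) (M : Subgroup G) (R : G → Subgroup G) (α β : M → ℂ) :
    Cfsg.dadeIsometry A M R (α + β) = Cfsg.dadeIsometry A M R α + Cfsg.dadeIsometry A M R β := by
  funext g
  simp only [Cfsg.dadeIsometry, Pi.add_apply]
  split_ifs <;> simp

theorem dade_sub (A : Set G) (M : Subgroup G) (R : G → Subgroup G) (α β : M → ℂ) :
    Cfsg.dadeIsometry A M R (α - β) = Cfsg.dadeIsometry A M R α - Cfsg.dadeIsometry A M R β := by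
  funext g
  simp only [Cfsg.dadeIsometry, Pi.sub_apply]
  split_ifs <;> simp

theorem dade_smul (A : Set G) (M : Subgroup G) (R : G → Subgroup G) (c : ℂ) (α : M → ℂ) :
    Cfsg.dadeIsometry A M R (c • α) = c • Cfsg.dadeIsometry A M R α := by
  funext g
  simp only [Cfsg.dadeIsometry, Pi.smul_apply]
  split_ifs <;> simp

theorem dade_zsmul (A : Set G) (M : Subgroup G) (R : G → Subgroup G) (n : ℤ) (α : M → ℂ) :
    Cfsg.dadeIsometry A M R (n • α) = n • Cfsg.dadeIsometry A M R α := by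
  funext g
  simp only [Cfsg.dadeIsometry, Pi.smul_apply]
  split_ifs <;> simp

theorem dade_sum {ι : Type*} (A : Set G) (M : Subgroup G) (R : G → Subgroup G) (s : Finset ι)
    (f : ι → M → ℂ) :
    Cfsg.dadeIsometry A M R (∑ i ∈ s, f i) = ∑ i ∈ s, Cfsg.dadeIsometry A M R (f i) := by
  classical
  induction s using Finset.induction_on with
  | empty =>
    funext g
    simp [Cfsg.dadeIsometry]
  | insert a s ha ih => rw [Finset.sum_insert ha, Finset.sum_insert ha, dade_add, ih]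

/-- The Dade map keeps the multiplicity of the principal character. -/
theorem dade_inner_one [Fintype M] (h : Hyp M K H W₁ W₂ A R) {α : M → ℂ}
    (hα : Cfsg.IsClassFunction M α) (hαA : ∀ x : M, (x : G) ∉ A → α x = 0) :
    Cfsg.classInner (Cfsg.dadeIsometry A M R α) (fun _ => 1) =
      Cfsg.classInner α (fun _ => 1) := by
  refine Dade.classInner_dade h.dade hα hαA (fun _ _ => rfl) fun a ha => ?_
  classical
  rw [finsum_mem_eq_toFinset_sum, Finset.sum_const, nsmul_eq_mul, mul_one]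
  have e : ((R (a : G) : Set G).toFinset.card : ℂ) = Nat.card (R (a : G)) := by
    rw [Nat.card_eq_fintype_card, Set.toFinset_card]; rfl
  rw [e, inv_mul_cancel₀ (Nat.cast_ne_zero.2 Nat.card_pos.ne')]

end Hyp

end Cfsg.Agent.Lib.OddOrder.PrimeDade
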