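import Cfsg.Agent.Lib.OddOrder.PrimeDade.Column
import Cfsg.Agent.S1518

/-!
# Peterfalvi (5.8), (5.9): the coherence system of the prime Dade hypothesis

For a conjugation-closed `S ⊆ inducedIrrAbove K ⊥` with members supported in `A`, the Dade map
carries a coherence system with `R χ = {μ, -conj μ}` at an irreducible member and
`R (X ψ) = {δ η(φψ)} ∪ {-δ η(φψ⁻¹)}`.
-/

set_option autoImplicit false
set_option linter.style.haveILetI false

namespace Cfsg.Agent.Lib.OddOrder.PrimeDade.Hyp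

open scoped ComplexConjugate Classical
open Cfsg.Agent.Lib.CyclicTI Cfsg.Agent.Lib.Isometry
open Cfsg.Agent.Lib.Induced.Basic Cfsg.Agent.Lib.Characters.Basic

universe u

variable {G : Type u} [Group G] [Fintype G] {M : Subgroup G} [Fintype M] {K H : Subgroup M}
  {W₁ W₂ : Subgroup G} {A : Set G} {R : G → Subgroup G}
  {μ : (↥(W₁.subgroupOf M ⊔ W₂.subgroupOf M) →* ℂˣ) → (M → ℂ)}
  {δ : (↥(W₁.subgroupOf M ⊔ W₂.subgroupOf M) →* ℂˣ) → ℂ}
  {η : (↥(W₁ ⊔ W₂) →* ℂˣ) → (G → ℂ)}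

/-- The two halves `δ η (φψ)` and `-δ η (φψ⁻¹)` of `R (X ψ)`. -/
noncomputable def piece (δ : (↥(W₁.subgroupOf M ⊔ W₂.subgroupOf M) →* ℂˣ) → ℂ)
    (η : (↥(W₁ ⊔ W₂) →* ℂˣ) → (G → ℂ)) (ψ : ↥(W₁ ⊔ W₂) →* ℂˣ)
    (v : {φ : ↥(W₁ ⊔ W₂) →* ℂˣ // IsP φ} × Bool) : G → ℂ :=
  (cond v.2 (δ (pull ψ)) (-δ (pull ψ))) • η (v.1.1 * cond v.2 ψ ψ⁻¹)

/-- What `R` has to be at a member `χ`. -/
def IsValue [Fintype {φ : ↥(W₁ ⊔ W₂) →* ℂˣ // IsP φ}] (A : Set G) (R : G → Subgroup G)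
    (K : Subgroup M) (μ : (↥(W₁.subgroupOf M ⊔ W₂.subgroupOf M) →* ℂˣ) → (M → ℂ))
    (δ : (↥(W₁.subgroupOf M ⊔ W₂.subgroupOf M) →* ℂˣ) → ℂ)
    (η : (↥(W₁ ⊔ W₂) →* ℂˣ) → (G → ℂ)) (χ : M → ℂ) (Rχ : Finset (G → ℂ)) : Prop :=
  (Cfsg.IsIrrCharacter M χ ∧ ∃ ξ : G → ℂ, Cfsg.IsIrrCharacter G ξ ∧ Cfsg.conjFun ξ ≠ ξ ∧
      Cfsg.dadeIsometry A M R (χ - Cfsg.conjFun χ) = ξ - Cfsg.conjFun ξ ∧
      Rχ = {ξ, -Cfsg.conjFun ξ}) ∨
    ∃ ψ : ↥(W₁ ⊔ W₂) →* ℂˣ, IsQ ψ ∧ ψ ≠ 1 ∧ χ = col μ K ψ ∧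
      Rχ = Finset.univ.image (piece δ η ψ)

theorem isQ_cond {ψ : ↥(W₁ ⊔ W₂) →* ℂˣ} (hψ : IsQ ψ) (b : Bool) : IsQ (cond b ψ ψ⁻¹) := by
  cases b
  · exact fun w hw => by
      show ψ⁻¹ w = 1
      rw [MonoidHom.inv_apply, hψ w hw, inv_one]
  · exact hψ

theorem inner_piece (h : Hyp M K H W₁ W₂ A R)
    (hc : IsChars (W₁.subgroupOf M) (W₂.subgroupOf M) μ δ) (hη : Cfsg.IsCyclicTIFamily W₁ W₂ η)
    {ψ : ↥(W₁ ⊔ W₂) →* ℂˣ} (hψ : IsQ ψ) (h1 : ψ ≠ 1)
    (u v : {φ : ↥(W₁ ⊔ W₂) →* ℂˣ // IsP φ} × Bool) :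
    Cfsg.classInner (piece δ η ψ u) (piece δ η ψ v) = if u = v then 1 else 0 := by
  simp only [piece]
  rw [classInner_smul_left, classInner_smul_right, hη.orthonormal]
  by_cases huv : u = v
  · subst huv
    rw [if_pos rfl, if_pos rfl]
    rcases hc.sign (pull ψ) with e | e <;> cases u.2 <;> simp [e]
  · rw [if_neg huv, if_neg, mul_zero, mul_zero]
    intro e
    obtain ⟨e1, e2⟩ := pair_inj u.1.2 v.1.2 (isQ_cond hψ u.2) (isQ_cond hψ v.2) e
    refine huv (Prod.ext (Subtype.ext e1) ?_)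
    have hne := h.inv_ne h1
    cases hu : u.2 <;> cases hv : v.2 <;> rw [hu, hv] at e2 <;> simp only [cond] at e2
    · exact absurd e2 hne
    · exact absurd e2.symm hne

theorem piece_inj (h : Hyp M K H W₁ W₂ A R)
    (hc : IsChars (W₁.subgroupOf M) (W₂.subgroupOf M) μ δ) (hη : Cfsg.IsCyclicTIFamily W₁ W₂ η)
    {ψ : ↥(W₁ ⊔ W₂) →* ℂˣ} (hψ : IsQ ψ) (h1 : ψ ≠ 1) : Function.Injective (piece δ η ψ) := by
  intro u v e
  by_contra hne
  have h0 := h.inner_piece hc hη hψ h1 u v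
  rw [← e, h.inner_piece hc hη hψ h1 u u, if_pos rfl, if_neg hne] at h0
  exact one_ne_zero h0

theorem inv_ne_one' {ψ : ↥(W₁ ⊔ W₂) →* ℂˣ} (h1 : ψ ≠ 1) : ψ⁻¹ ≠ 1 := fun e =>
  h1 (MonoidHom.ext fun w => by
    have := DFunLike.congr_fun e w
    rwa [MonoidHom.inv_apply, MonoidHom.one_apply, inv_eq_one] at this)

/-- The `η (φψ)` are orthogonal to the image of an irreducible member. -/
theorem inner_eta_irr (h : Hyp M K H W₁ W₂ A R)
    (hc : IsChars (W₁.subgroupOf M) (W₂.subgroupOf M) μ δ) (hη : Cfsg.IsCyclicTIFamily W₁ W₂ η)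
    {χ : M → ℂ} (hχ : Cfsg.IsIrrCharacter M χ) (hv : ∀ g : M, g ∉ K → χ g = 0)
    {ξ : G → ℂ} (hξ : Cfsg.IsIrrCharacter G ξ) (hξne : Cfsg.conjFun ξ ≠ ξ)
    (hτ : Cfsg.dadeIsometry A M R (χ - Cfsg.conjFun χ) = ξ - Cfsg.conjFun ξ)
    {φ ψ : ↥(W₁ ⊔ W₂) →* ℂˣ} (hφ : IsP φ) (hψ : IsQ ψ) (h1 : ψ ≠ 1) :
    Cfsg.classInner (η (φ * ψ)) ξ = 0 ∧ Cfsg.classInner (η (φ * ψ)) (Cfsg.conjFun ξ) = 0 := by
  haveI := h.K_normal
  have hχc := Inner.conjFun_irr hχ
  have hξc := Inner.conjFun_irr hξ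
  have hvc : ∀ g : M, g ∉ K → Cfsg.conjFun χ g = 0 := fun g hg => by
    show conj (χ g) = 0
    rw [hv g hg, map_zero]
  have rel : ∀ {ψ : ↥(W₁ ⊔ W₂) →* ℂˣ}, IsQ ψ → ψ ≠ 1 →
      Cfsg.classInner (η (φ * ψ)) ξ - Cfsg.classInner (η (φ * ψ)) (Cfsg.conjFun ξ) -
        (Cfsg.classInner (η (φ * ψ⁻¹)) ξ - Cfsg.classInner (η (φ * ψ⁻¹)) (Cfsg.conjFun ξ)) = 0 := by
    intro ψ hψ h1
    have hQ : IsQ ψ⁻¹ := isQ_cond hψ false
    have hdeg : μ (pull ψ) 1 = μ (pull (M := M) ψ⁻¹) 1 := by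
      rw [pull_inv, ← (hc.conj_mu h.plike (pull ψ)).1]
      obtain ⟨d, hd⟩ := exists_degree (IsCharacter_of_isIrrCharacter (hc.irr (pull ψ)))
      show _ = conj (μ (pull ψ) 1)
      rw [hd, map_natCast]
    set T := μ (pull (φ * ψ)) - μ (pull (φ * ψ⁻¹)) with hT
    have hTA : ∀ x : M, (x : G) ∉ A → T x = 0 := fun x hx =>
      h.diff_supp hc hφ hψ hQ h1 (inv_ne_one' h1) hdeg hx
    have hTcl : Cfsg.IsClassFunction M T := fun g x => by
      simp only [hT, Pi.sub_apply, hc.classFun _ g x]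
    have hcl : Cfsg.IsClassFunction M (χ - Cfsg.conjFun χ) := fun g x => by
      show χ _ - conj (χ _) = χ g - conj (χ g)
      rw [show χ (x * g * x⁻¹) = χ g from isClassFunction_irr ⟨χ, hχ⟩ g x]
    have e := Dade.classInner_dade_dade h.dade hTcl hTA hcl
    rw [h.tau_diff hc hη hφ hψ hQ h1 (inv_ne_one' h1) hdeg, hτ] at e
    simp only [hT, classInner_smul_left, classInner_sub_left, classInner_sub_right,
      Inner.classInner_irr_eq (hc.irr _) hχ, Inner.classInner_irr_eq (hc.irr _) hχc,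
      if_neg (Ne.symm (h.irr_ne_mu hc hv _)), if_neg (Ne.symm (h.irr_ne_mu hc hvc _)),
      sub_self] at e
    rw [← mul_sub] at e
    linear_combination (mul_eq_zero.1 e).resolve_left (hc.sign_ne (pull ψ))
  have main : ∀ {ζ : G → ℂ}, Cfsg.IsIrrCharacter G ζ → Cfsg.conjFun ζ ≠ ζ →
      (Cfsg.classInner (η (φ * ψ)) ζ - Cfsg.classInner (η (φ * ψ)) (Cfsg.conjFun ζ) -
        (Cfsg.classInner (η (φ * ψ⁻¹)) ζ - Cfsg.classInner (η (φ * ψ⁻¹)) (Cfsg.conjFun ζ)) = 0) →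
      Cfsg.classInner (η (φ * ψ)) ζ = 0 := by
    intro ζ hζ hζne hrel
    by_contra hne
    have hζc := Inner.conjFun_irr hζ
    obtain ⟨ε, hε, he, hεe⟩ := (Inner.signed_cases (hη.irr_or_neg _) (Or.inl hζ)).resolve_left hne
    have hab : φ * ψ⁻¹ ≠ φ * ψ := fun r => h.inv_ne h1 (mul_left_cancel r)
    have z1 : Cfsg.classInner (η (φ * ψ)) (Cfsg.conjFun ζ) = 0 := by
      rw [he, classInner_smul_left, Inner.classInner_irr_eq hζ hζc, if_neg (Ne.symm hζne), mul_zero]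
    have z2 : Cfsg.classInner (η (φ * ψ⁻¹)) ζ = 0 := by
      have := hη.orthonormal (φ * ψ⁻¹) (φ * ψ)
      rw [if_neg hab, he, classInner_smul_right, mul_eq_zero] at this
      refine this.resolve_left ?_
      rcases hε with rfl | rfl <;> simp
    rw [hεe, z1, z2] at hrel
    have z3 : Cfsg.classInner (η (φ * ψ⁻¹)) (Cfsg.conjFun ζ) = -ε := by linear_combination hrel
    obtain ⟨ε', -, he', hεe'⟩ := (Inner.signed_cases (hη.irr_or_neg (φ * ψ⁻¹)) (Or.inl hζc)).resolve_left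
      (by rw [z3]; rcases hε with rfl | rfl <;> norm_num)
    rw [z3] at hεe'
    obtain ⟨w₁, hw₁, hw₁1⟩ : ∃ w ∈ W₁, w ≠ 1 := by
      obtain ⟨⟨x, hx⟩, hx1⟩ := Subgroup.ne_bot_iff_exists_ne_one.1 h.selfNormalizing.1
      exact ⟨x, hx, fun r => hx1 (Subtype.ext r)⟩
    obtain ⟨w₂, hw₂, hw₂1⟩ : ∃ w ∈ W₂, w ≠ 1 := by
      obtain ⟨⟨x, hx⟩, hx1⟩ := Subgroup.ne_bot_iff_exists_ne_one.1 h.selfNormalizing.2.1
      exact ⟨x, hx, fun r => hx1 (Subtype.ext r)⟩
    set v : ↥(W₁ ⊔ W₂) := ⟨w₁ * w₂, (W₁ ⊔ W₂).mul_mem (Subgroup.mem_sup_left hw₁)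
      (Subgroup.mem_sup_right hw₂)⟩
    have hv1 : (v : G) ∉ W₁ := fun hm => hw₂1 (eq_one_of_mem h.selfNormalizing
      (by simpa [v] using W₁.mul_mem (W₁.inv_mem hw₁) hm) hw₂)
    have hv2 : (v : G) ∉ W₂ := fun hm => hw₁1 (eq_one_of_mem h.selfNormalizing hw₁
      (by simpa [v] using W₂.mul_mem hm (W₂.inv_mem hw₂)))
    have ea := congrFun he (v : G)
    have eb := congrFun he' (v : G)
    rw [hη.eq_on _ v hv1 hv2] at ea eb
    simp only [Pi.smul_apply, smul_eq_mul, Cfsg.conjFun, ← hεe'] at ea eb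
    have key : ((φ * ψ⁻¹) v : ℂ) = -conj ((φ * ψ) v : ℂ) := by
      rw [ea, eb, map_mul]
      rcases hε with rfl | rfl <;> simp
    have hn : ∀ (f : ↥(W₁ ⊔ W₂) →* ℂˣ), conj (f v : ℂ) = (f v : ℂ)⁻¹ := fun f =>
      (Complex.inv_eq_conj (Complex.norm_eq_one_of_pow_eq_one (n := orderOf v)
        (by rw [← Units.val_pow_eq_pow_val, ← map_pow, pow_orderOf_eq_one, map_one, Units.val_one])
        (orderOf_pos v).ne')).symm
    simp only [MonoidHom.mul_apply, MonoidHom.inv_apply, Units.val_mul, map_mul,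
      Units.val_inv_eq_inv_val] at key
    rw [hn, hn] at key
    have hsq : (φ v : ℂ) ^ 2 = -1 := by
      have h2 : (φ v : ℂ) ≠ 0 := Units.ne_zero _
      have h3 : (ψ v : ℂ) ≠ 0 := Units.ne_zero _
      field_simp at key
      linear_combination key
    have hpow : (φ v : ℂ) ^ Nat.card ↥(W₁ ⊔ W₂) = 1 := by
      rw [← Units.val_pow_eq_pow_val, ← map_pow, pow_card_eq_one', map_one, Units.val_one]
    have h4 : ((φ v : ℂ) ^ 2) ^ Nat.card ↥(W₁ ⊔ W₂) = 1 := by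
      rw [← pow_mul, mul_comm, pow_mul, hpow, one_pow]
    rw [hsq, h.odd_W.neg_one_pow] at h4
    norm_num at h4
  refine ⟨main hξ hξne (rel hψ h1), main hξc ?_ ?_⟩
  · rw [Inner.conjFun_conjFun]
    exact Ne.symm hξne
  · rw [Inner.conjFun_conjFun]
    linear_combination -(rel hψ h1)

theorem exists_value [Fintype {φ : ↥(W₁ ⊔ W₂) →* ℂˣ // IsP φ}] (h : Hyp M K H W₁ W₂ A R)
    (hc : IsChars (W₁.subgroupOf M) (W₂.subgroupOf M) μ δ) {χ : M → ℂ}
    (hχ : χ ∈ Cfsg.inducedIrrAbove K ⊥) (hsupp : ∀ x : M, x ≠ 1 → (x : G) ∉ A → χ x = 0) :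
    ∃ Rχ, IsValue A R K μ δ η χ Rχ := by
  rcases h.cases_member hc hχ with hirr | ⟨ψ, hψ, h1, e⟩
  · obtain ⟨ξ, hξ, he⟩ := Cfsg.Agent.S1518.result A M R h.dade χ hirr hsupp
    refine ⟨_, Or.inl ⟨hirr, ξ, hξ, fun r => ?_, he, rfl⟩⟩
    have hne := h.member_conj_ne hc hχ
    have hcl : Cfsg.IsClassFunction M (χ - Cfsg.conjFun χ) := fun g x => by
      show χ _ - conj (χ _) = χ g - conj (χ g)
      rw [show χ (x * g * x⁻¹) = χ g from isClassFunction_irr ⟨χ, hirr⟩ g x]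
    have hA : ∀ x : M, (x : G) ∉ A → (χ - Cfsg.conjFun χ) x = 0 := fun x hx => by
      by_cases hx1 : x = 1
      · obtain ⟨d, hd⟩ := exists_degree (IsCharacter_of_isIrrCharacter hirr)
        simp [hx1, Cfsg.conjFun, hd]
      · simp [Cfsg.conjFun, hsupp x hx1 hx]
    have e2 := Dade.classInner_dade_dade h.dade hcl hA hcl
    rw [he, r, sub_self, classInner_zero_left] at e2
    simp only [classInner_sub_left, classInner_sub_right,
      Inner.classInner_irr_eq hirr hirr, Inner.classInner_irr_eq hirr (Inner.conjFun_irr hirr),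
      Inner.classInner_irr_eq (Inner.conjFun_irr hirr) hirr,
      Inner.classInner_irr_eq (Inner.conjFun_irr hirr) (Inner.conjFun_irr hirr),
      if_neg hne, if_neg (Ne.symm hne), if_true] at e2
    norm_num at e2
  · exact ⟨_, Or.inr ⟨ψ, hψ, h1, e, rfl⟩⟩

/-- (5.8), (5.9). -/
theorem exists_system (h : Hyp M K H W₁ W₂ A R)
    (hc : IsChars (W₁.subgroupOf M) (W₂.subgroupOf M) μ δ) (hη : Cfsg.IsCyclicTIFamily W₁ W₂ η)
    [Fintype {φ : ↥(W₁ ⊔ W₂) →* ℂˣ // IsP φ}] {S : Set (M → ℂ)}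
    (hsub : S ⊆ Cfsg.inducedIrrAbove K ⊥) (hne : S.Nonempty)
    (hconj : ∀ χ ∈ S, Cfsg.conjFun χ ∈ S)
    (hsupp : ∀ χ ∈ S, ∀ x : M, x ≠ 1 → (x : G) ∉ A → χ x = 0) :
    ∃ Rf : (M → ℂ) → Finset (G → ℂ), Cfsg.IsCoherenceSystem S (Cfsg.dadeIsometry A M R) Rf ∧
      ∀ χ ∈ S, IsValue A R K μ δ η χ (Rf χ) := by
  haveI := h.K_normal
  haveI := finite_hom (G := G) (W₁ := W₁) (W₂ := W₂)
  haveI := Fintype.ofFinite (↥(W₁ ⊔ W₂) →* ℂˣ)
  let Rf : (M → ℂ) → Finset (G → ℂ) := fun χ =>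
    if hχ : χ ∈ S then Classical.choose (h.exists_value (η := η) hc (hsub hχ) (hsupp χ hχ)) else ∅
  have hRf : ∀ χ ∈ S, IsValue A R K μ δ η χ (Rf χ) := fun χ hχ => by
    simp only [Rf, dif_pos hχ]
    exact Classical.choose_spec (h.exists_value (η := η) hc (hsub hχ) (hsupp χ hχ))
  refine ⟨Rf, ?_, hRf⟩
  have hchar : ∀ χ ∈ S, Cfsg.IsCharacter M χ := fun χ hχ => by
    rcases h.cases_member hc (hsub hχ) with hirr | ⟨ψ, -, -, rfl⟩
    · exact IsCharacter_of_isIrrCharacter hirr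
    · exact h.col_character hc ψ
  have hgen : ∀ α ∈ Cfsg.zspanOn S ({1}ᶜ : Set M), Cfsg.IsGeneralizedCharacter M α := fun α hα =>
    Inner.gen_zspan (fun χ hχ => Inner.gen_of_isCharacter (hchar χ hχ)) hα.1
  have hvan : ∀ α ∈ Cfsg.zspanOn S ({1}ᶜ : Set M), ∀ x : M, (x : G) ∉ A → α x = 0 := by
    intro α hα x hx
    by_cases hx1 : x = 1
    · subst hx1
      exact hα.2 1 (by simp)
    obtain ⟨hspan, -⟩ := hα
    induction hspan using Submodule.span_induction with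
    | mem y hy => exact hsupp y hy x hx1 hx
    | zero => rfl
    | add y z _ _ hy hz => simp [hy, hz]
    | smul n y _ hy => simp [hy]
  have hdiff : ∀ χ ∈ S, ∀ x : M, (x : G) ∉ A → (χ - Cfsg.conjFun χ) x = 0 := fun χ hχ x hx => by
    by_cases hx1 : x = 1
    · obtain ⟨d, hd⟩ := exists_degree (hchar χ hχ)
      simp [hx1, Cfsg.conjFun, hd]
    · simp [Cfsg.conjFun, hsupp χ hχ x hx1 hx]
  refine
    { nonempty := hne
      isCharacter := hchar
      conj_mem := hconj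
      conj_ne := fun χ hχ => h.member_conj_ne hc (hsub hχ)
      isometry := ⟨fun α _ β _ => dade_add A M R α β, fun α _ n => dade_zsmul A M R n α,
        fun α hα β hβ => Dade.classInner_dade_dade h.dade (Inner.gen_classFun (hgen α hα))
          (hvan α hα) (Inner.gen_classFun (hgen β hβ)),
        fun α hα => DadeGen.gen_dade h.dade (hgen α hα) (hvan α hα)⟩
      map_one := fun α _ => h.dade_one α
      orthogonal := fun χ hχ φ hφ hne => h.orth_member hc (hsub hχ) (hsub hφ) hne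
      orthonormal := ?_
      virtual := ?_
      sum_eq := ?_
      disjoint := ?_ }
  · intro χ hχ α hα β hβ
    rcases hRf χ hχ with ⟨-, ξ, hξ, hξne, -, eR⟩ | ⟨ψ, hψ, h1, -, eR⟩
    · have hξc := Inner.conjFun_irr hξ
      have h12 : ξ ≠ -Cfsg.conjFun ξ := fun r => by
        have := congrArg (fun f => Cfsg.classInner f ξ) r
        simp [Inner.classInner_neg_left, Inner.classInner_irr_eq hξ hξ,
          Inner.classInner_irr_eq hξc hξ, if_neg hξne] at this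
      rw [eR] at hα hβ
      simp only [Finset.mem_insert, Finset.mem_singleton] at hα hβ
      rcases hα with rfl | rfl <;> rcases hβ with rfl | rfl
      · simp [Inner.classInner_irr_eq hξ hξ]
      · simp [Inner.classInner_neg_right, Inner.classInner_irr_eq hξ hξc, if_neg (Ne.symm hξne),
          if_neg h12]
      · simp [Inner.classInner_neg_left, Inner.classInner_irr_eq hξc hξ, if_neg hξne,
          if_neg (Ne.symm h12)]
      · simp [Inner.classInner_neg_left, Inner.classInner_neg_right,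
          Inner.classInner_irr_eq hξc hξc]
    · rw [eR, Finset.mem_image] at hα hβ
      obtain ⟨u, -, rfl⟩ := hα
      obtain ⟨v, -, rfl⟩ := hβ
      rw [h.inner_piece hc hη hψ h1]
      exact if_congr (h.piece_inj hc hη hψ h1).eq_iff.symm rfl rfl
  · intro χ hχ α hα
    rcases hRf χ hχ with ⟨-, ξ, hξ, -, -, eR⟩ | ⟨ψ, hψ, h1, -, eR⟩
    · rw [eR, Finset.mem_insert, Finset.mem_singleton] at hα
      rcases hα with rfl | rfl
      · exact Inner.gen_of_irr hξ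
      · exact Inner.gen_neg (Inner.gen_of_irr (Inner.conjFun_irr hξ))
    · rw [eR, Finset.mem_image] at hα
      obtain ⟨⟨v, b⟩, -, rfl⟩ := hα
      have hg := Inner.gen_of_signed (hη.irr_or_neg (v.1 * cond b ψ ψ⁻¹))
      rcases hc.sign (pull ψ) with e | e <;> cases b <;>
        simp only [piece, cond, e, neg_neg, one_smul, neg_one_smul, neg_smul] <;>
        first
          | exact hg
          | exact Inner.gen_neg hg
  · intro χ hχ
    rcases hRf χ hχ with ⟨-, ξ, hξ, hξne, he, eR⟩ | ⟨ψ, hψ, h1, eX, eR⟩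
    · have hξc := Inner.conjFun_irr hξ
      have h12 : ξ ≠ -Cfsg.conjFun ξ := fun r => by
        have := congrArg (fun f => Cfsg.classInner f ξ) r
        simp [Inner.classInner_neg_left, Inner.classInner_irr_eq hξ hξ,
          Inner.classInner_irr_eq hξc hξ, if_neg hξne] at this
      rw [he, eR, Finset.sum_pair h12]
      abel
    · have hQ : IsQ ψ⁻¹ := isQ_cond hψ false
      have hdeg : μ (pull ψ) 1 = μ (pull (M := M) ψ⁻¹) 1 := by
        rw [pull_inv, ← (hc.conj_mu h.plike (pull ψ)).1]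
        obtain ⟨d, hd⟩ := exists_degree (IsCharacter_of_isIrrCharacter (hc.irr (pull ψ)))
        show _ = conj (μ (pull ψ) 1)
        rw [hd, map_natCast]
      rw [eX] at eR ⊢
      rw [eR, h.col_conj hc, col, col, h.tau_ind_diff hc hη hψ hQ h1 (inv_ne_one' h1) hdeg,
        Finset.sum_image ((h.piece_inj hc hη hψ h1).injOn), Fintype.sum_prod_type,
        Finset.sum_subtype (p := IsP) (Finset.univ.filter fun φ : ↥(W₁ ⊔ W₂) →* ℂˣ => IsP φ)
          (fun φ => by simp)]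
      refine Finset.sum_congr rfl fun φ _ => ?_
      simp only [Fintype.sum_bool, piece, cond, smul_sub, neg_smul]
      abel
  · intro χ hχ φ hφ h0 h0' α hα β hβ
    rcases hRf φ hφ with ⟨hirr, ξ, hξ, hξne, he, eR⟩ | ⟨ψ, hψ, h1, eX, eR⟩ <;>
      rcases hRf χ hχ with ⟨hirr', ξ', hξ', hξne', he', eR'⟩ | ⟨ψ', hψ', h1', eX', eR'⟩
    · have hξc := Inner.conjFun_irr hξ
      have hξc' := Inner.conjFun_irr hξ'
      have hgen1 : Cfsg.IsGeneralizedCharacter M (φ - Cfsg.conjFun φ) :=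
        Inner.gen_sub (Inner.gen_of_irr hirr) (Inner.gen_of_irr (Inner.conjFun_irr hirr))
      have hgen2 : Cfsg.IsGeneralizedCharacter M (χ - Cfsg.conjFun χ) :=
        Inner.gen_sub (Inner.gen_of_irr hirr') (Inner.gen_of_irr (Inner.conjFun_irr hirr'))
      have e := Dade.classInner_dade_dade h.dade (Inner.gen_classFun hgen1) (hdiff φ hφ)
        (Inner.gen_classFun hgen2)
      have c1 := Inner.classInner_conjFun φ χ
      have c2 := Inner.classInner_conjFun φ (Cfsg.conjFun χ)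
      rw [Inner.conjFun_conjFun] at c2
      rw [he, he'] at e
      simp only [classInner_sub_left, classInner_sub_right, h0, h0', c1, c2, map_zero,
        sub_self, sub_zero] at e
      have key : ξ ≠ ξ' ∧ ξ ≠ Cfsg.conjFun ξ' := by
        constructor <;> intro r <;> subst r <;>
          simp [Inner.classInner_irr_eq hξ' hξ', Inner.classInner_irr_eq hξ' hξc',
            Inner.classInner_irr_eq hξc' hξ', Inner.classInner_irr_eq hξc' hξc',
            Inner.conjFun_conjFun, hξne', Ne.symm hξne'] at e <;>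
          norm_num at e
      have k3 : Cfsg.conjFun ξ ≠ Cfsg.conjFun ξ' := fun r =>
        key.1 (by rw [← Inner.conjFun_conjFun ξ, r, Inner.conjFun_conjFun])
      have k4 : Cfsg.conjFun ξ ≠ ξ' := fun r =>
        key.2 (by rw [← r, Inner.conjFun_conjFun])
      rw [eR, Finset.mem_insert, Finset.mem_singleton] at hα
      rw [eR', Finset.mem_insert, Finset.mem_singleton] at hβ
      rcases hα with rfl | rfl <;> rcases hβ with rfl | rfl <;>
        simp [Inner.classInner_neg_left, Inner.classInner_neg_right,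
          Inner.classInner_irr_eq hξ hξ', Inner.classInner_irr_eq hξ hξc',
          Inner.classInner_irr_eq hξc hξ', Inner.classInner_irr_eq hξc hξc', key.1, key.2, k3, k4]
    · rw [eR, Finset.mem_insert, Finset.mem_singleton] at hα
      rw [eR', Finset.mem_image] at hβ
      obtain ⟨⟨v, b⟩, -, rfl⟩ := hβ
      obtain ⟨z1, z2⟩ := h.inner_eta_irr hc hη hirr (fun g hg => h.vanish_off (hsub hφ) hg)
        hξ hξne he v.2 (isQ_cond hψ' b) (by cases b; exacts [inv_ne_one' h1', h1'])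
      rcases hα with rfl | rfl
      · rw [piece, classInner_smul_right, ← classInner_conj_symm (η _) α]
        simp [z1]
      · rw [piece, classInner_smul_right, Inner.classInner_neg_left,
          ← classInner_conj_symm (η _) (Cfsg.conjFun ξ)]
        simp [z2]
    · rw [eR', Finset.mem_insert, Finset.mem_singleton] at hβ
      rw [eR, Finset.mem_image] at hα
      obtain ⟨⟨v, b⟩, -, rfl⟩ := hα
      obtain ⟨z1, z2⟩ := h.inner_eta_irr hc hη hirr' (fun g hg => h.vanish_off (hsub hχ) hg)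
        hξ' hξne' he' v.2 (isQ_cond hψ b) (by cases b; exacts [inv_ne_one' h1, h1])
      rcases hβ with rfl | rfl
      · rw [piece, classInner_smul_left]
        simp [z1]
      · rw [piece, classInner_smul_left, Inner.classInner_neg_right]
        simp [z2]
    · rw [eR, Finset.mem_image] at hα
      rw [eR', Finset.mem_image] at hβ
      obtain ⟨⟨u, a⟩, -, rfl⟩ := hα
      obtain ⟨⟨v, b⟩, -, rfl⟩ := hβ
      rw [eX, eX', h.inner_col hc hψ hψ'] at h0
      rw [eX, eX', h.col_conj hc, h.inner_col hc hψ (show IsQ ψ'⁻¹ from isQ_cond hψ' false)] at h0'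
      have n1 : ψ ≠ ψ' := fun r => by
        rw [if_pos r] at h0
        exact Nat.cast_ne_zero.2 Nat.card_pos.ne' h0
      have n2 : ψ ≠ ψ'⁻¹ := fun r => by
        rw [if_pos r] at h0'
        exact Nat.cast_ne_zero.2 Nat.card_pos.ne' h0'
      rw [piece, piece, classInner_smul_left, classInner_smul_right, hη.orthonormal, if_neg,
        mul_zero, mul_zero]
      intro e
      obtain ⟨-, e2⟩ := pair_inj u.2 v.2 (isQ_cond hψ a) (isQ_cond hψ' b) e
      cases a <;> cases b <;> simp only [cond] at e2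
      · exact n1 (inv_injective e2)
      · exact n2 (by rw [← e2]; ext w; simp)
      · exact n2 e2
      · exact n1 e2

end Cfsg.Agent.Lib.OddOrder.PrimeDade.Hyp
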