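import Cfsg.Agent.Lib.OddOrder.TypeOne
import Cfsg.Agent.Lib.OddOrder.PrimeDade.System
import Cfsg.Agent.Lib.OddOrder.PF8.Dade
import Cfsg.Agent.Lib.OddOrder.PF8.TypeP
import Cfsg.Agent.Lib.OddOrder.MinSimple
import Cfsg.Agent.Lib.OddOrder.Interface.PF9Char
import Cfsg.Agent.Lib.OddOrder.Interface.PF11

/-!
# The prime Dade hypothesis of a maximal subgroup of type P

`A = A₀(M)`, `K = M'`, `H` any normal subgroup between `W₂` and the core `M_s`.
-/

set_option autoImplicit false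
set_option linter.style.haveILetI false

namespace Cfsg.Agent.Lib.OddOrder.PrimeDade.Instance

open Cfsg.Agent.Lib.CyclicTI Cfsg.Agent.Lib.Isometry
open Cfsg.Agent.Lib.OddOrder.Basic
open Cfsg.Agent.Lib.OddOrder.Interface.PF8
open Cfsg.Agent.Lib.Induced.Basic Cfsg.Agent.Lib.Characters.Basic

universe u

variable {G : Type u} [Group G] [Fintype G] {M W₁ U W₂ : Subgroup G}

/-- `M'` inside `M`. -/
abbrev kernel (M : Subgroup G) : Subgroup M := (⁅M, M⁆ : Subgroup G).subgroupOf M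

/-- `M_s` inside `M`. -/
noncomputable abbrev core (M : Subgroup G) : Subgroup M := (Cfsg.typeCore M).subgroupOf M

theorem kernel_normal (M : Subgroup G) : (kernel M).Normal :=
  (Subgroup.normal_subgroupOf_iff_le_normalizer (TypeP.derived_le M)).2
    (PF8.TypeP.le_normalizer_derived M)

theorem core_normal (M : Subgroup G) : (core M).Normal :=
  (Subgroup.normal_subgroupOf_iff_le_normalizer (PF8.Dade.typeCore_le M)).2
    (PF8.Dade.typeCore_normal M)

theorem plike (hG : Cfsg.IsMinSimpleOddOrder G) (hP : Cfsg.IsTypePWith M W₁ U W₂) :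
    IsPLike (kernel M) (W₁.subgroupOf M) (W₂.subgroupOf M) := by
  have hKM : ⁅M, M⁆ ≤ M := TypeP.derived_le M
  have h1 : W₁ ≤ M := hP.W₁_compl.2.1
  have h2K : W₂ ≤ ⁅M, M⁆ := (hP.W₂_le.trans inf_le_left).trans hP.U_compl.1
  have h2 : W₂ ≤ M := h2K.trans hKM
  haveI := hP.W₁_cyclic
  haveI : IsCyclic ↥(W₁ ⊔ W₂) := hP.selfNormalizing.2.2.2.2.1
  haveI : IsCyclic W₂ := isCyclic_of_injective (Subgroup.inclusion (le_sup_right : W₂ ≤ W₁ ⊔ W₂))
    (Subgroup.inclusion_injective _)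
  refine ⟨?_, ?_, ?_, ?_, hP.W₁_hall.coprime_dvd_left
      (Nat.card_congr (Subgroup.subgroupOfEquivOfLe h1).toEquiv).dvd, ?_, ?_,
    Subgroup.comap_mono h2K, ?_, ?_⟩
  · rw [show kernel M ⊓ W₁.subgroupOf M = (⁅M, M⁆ ⊓ W₁).subgroupOf M from rfl,
      hP.W₁_compl.2.2.1, Subgroup.bot_subgroupOf]
  · rw [kernel, ← Subgroup.subgroupOf_sup hKM h1, isComplIn_sup hP.W₁_compl,
      Subgroup.subgroupOf_self]
  · rw [Ne, Subgroup.subgroupOf_eq_bot, disjoint_iff, inf_eq_left.2 h1]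
    exact hP.W₁_ne
  · exact isCyclic_of_surjective (Subgroup.subgroupOfEquivOfLe h1).symm.toMonoidHom
      (MulEquiv.surjective _)
  · rw [Ne, Subgroup.subgroupOf_eq_bot, disjoint_iff, inf_eq_left.2 h2]
    exact hP.selfNormalizing.2.1
  · exact isCyclic_of_surjective (Subgroup.subgroupOfEquivOfLe h2).symm.toMonoidHom
      (MulEquiv.surjective _)
  · intro x hx hx1
    have h := hP.W₂_centralizer (x : G) hx (fun e => hx1 (Subtype.ext e))
    ext y
    simp only [Subgroup.mem_inf, Subgroup.mem_subgroupOf, Subgroup.mem_centralizer_singleton_iff,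
      Subtype.ext_iff, Subgroup.coe_mul, ← h]
  · exact (MinSimple.odd_card hG M).of_dvd_nat (Subgroup.card_subgroup_dvd_card _)

/-- The prime Dade hypothesis for `A₀(M)`, with a normal `H` between `W₂` and `M_s`. -/
theorem hyp_of (hG : Cfsg.IsMinSimpleOddOrder G) (hB : BG16 G) (hM : IsCoatom M)
    (hP : Cfsg.IsTypePWith M W₁ U W₂) {H : Subgroup M} (hHn : H.Normal)
    (h2H : W₂.subgroupOf M ≤ H) (hH : H ≤ core M) :
    Hyp M (kernel M) H W₁ W₂ (Cfsg.Agent.Lib.OddOrder.TypeOne.typeA0 M) (Cfsg.supportR M) where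
  le₁ := hP.W₁_compl.2.1
  le₂ := (hP.W₂_le.trans inf_le_left).trans (hP.U_compl.1.trans (TypeP.derived_le M))
  K_normal := kernel_normal M
  H_normal := hHn
  plike := plike hG hP
  selfNormalizing := hP.selfNormalizing
  le_H := h2H
  H_le := hH.trans (Subgroup.comap_mono (PF8.TypeP.typeCore_bounds hP).2)
  odd := MinSimple.odd_card hG M
  dade := (PF8.Dade.step_8_15 hG hB M hM _ (Or.inr (Or.inr rfl))).2
  mem_cyclic w hw h1 h2 := by
    rw [PF8.TypeP.typeA0_eq hP]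
    exact Or.inr ⟨1, M.one_mem, w, ⟨hw, h1, h2⟩, by simp⟩
  mem_cent x hx hx1 := by
    rintro ⟨n, hn, hn1, e⟩
    refine Or.inl ?_
    rw [Cfsg.Agent.Lib.OddOrder.TypeOne.typeA, if_neg (PF8.TypeP.not_typeI ⟨_, _, _, hP⟩)]
    exact ⟨hx, fun r => hx1 (Subtype.ext r), n, hH hn, fun r => hn1 (Subtype.ext r),
      (congrArg Subtype.val e).symm⟩

theorem W₂_le_fitting (hP : Cfsg.IsTypePWith M W₁ U W₂) :
    W₂.subgroupOf M ≤ (Cfsg.fittingHallOf M).subgroupOf M :=
  Subgroup.comap_mono (hP.W₂_le.trans inf_le_left)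

/-- The instance with `H = M_s`. -/
theorem hyp (hG : Cfsg.IsMinSimpleOddOrder G) (hB : BG16 G) (hM : IsCoatom M)
    (hP : Cfsg.IsTypePWith M W₁ U W₂) :
    Hyp M (kernel M) (core M) W₁ W₂ (Cfsg.Agent.Lib.OddOrder.TypeOne.typeA0 M) (Cfsg.supportR M) :=
  hyp_of hG hB hM hP (core_normal M)
    ((W₂_le_fitting hP).trans (Subgroup.comap_mono (PF8.TypeP.typeCore_bounds hP).1)) le_rfl

/-- The instance with `H = M_F`. -/
theorem hyp_fitting (hG : Cfsg.IsMinSimpleOddOrder G) (hB : BG16 G) (hM : IsCoatom M)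
    (hP : Cfsg.IsTypePWith M W₁ U W₂) :
    Hyp M (kernel M) ((Cfsg.fittingHallOf M).subgroupOf M) W₁ W₂ (Cfsg.Agent.Lib.OddOrder.TypeOne.typeA0 M)
      (Cfsg.supportR M) :=
  hyp_of hG hB hM hP
    (by
      rw [Cfsg.fittingHallOf, Subgroup.subgroupOf,
        Subgroup.comap_map_eq_self_of_injective (Subgroup.subtype_injective M)]
      exact Cfsg.fittingHall_normal M)
    (W₂_le_fitting hP) (Subgroup.comap_mono (PF8.TypeP.typeCore_bounds hP).1)

/-- For types III, IV and V, `M' - 1 ⊆ A(M)`. -/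
theorem derived_subset_typeA (hP : Cfsg.IsTypePWith M W₁ U W₂)
    (hcore : Cfsg.typeCore M = ⁅M, M⁆) {x : G} (hx : x ∈ ⁅M, M⁆) (hx1 : x ≠ 1) :
    x ∈ Cfsg.Agent.Lib.OddOrder.TypeOne.typeA M := by
  rw [Cfsg.Agent.Lib.OddOrder.TypeOne.typeA, if_neg (PF8.TypeP.not_typeI ⟨_, _, _, hP⟩)]
  exact ⟨hx, hx1, x, hcore ▸ hx, hx1, rfl⟩

theorem derived_subset_typeA0 (hP : Cfsg.IsTypePWith M W₁ U W₂)
    (hcore : Cfsg.typeCore M = ⁅M, M⁆) {x : G} (hx : x ∈ ⁅M, M⁆) (hx1 : x ≠ 1) :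
    x ∈ Cfsg.Agent.Lib.OddOrder.TypeOne.typeA0 M :=
  PF8.Dade.typeA_subset_typeA0 M (derived_subset_typeA hP hcore hx hx1)

/-- (5.9) on all of `S(1)` for types III, IV and V. -/
theorem system_above [Fintype M] (hG : Cfsg.IsMinSimpleOddOrder G) (hB : BG16 G) (hM : IsCoatom M)
    (hP : Cfsg.IsTypePWith M W₁ U W₂) (hcore : Cfsg.typeCore M = ⁅M, M⁆) :
    ∃ R, Cfsg.IsCoherenceSystem (Cfsg.inducedIrrAbove (kernel M) ⊥)
      (Interface.PF11.tau M) R := by
  classical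
  have h := hyp hG hB hM hP
  haveI := h.K_normal
  obtain ⟨μ, δ, hc⟩ := exists_chars (L := ↥M) (kernel M) (W₁.subgroupOf M) (W₂.subgroupOf M) h.plike
  obtain ⟨η, hη⟩ := exists_family (G := G) h.selfNormalizing h.odd_W
  haveI := finite_hom (G := G) (W₁ := W₁) (W₂ := W₂)
  haveI := Fintype.ofFinite (↥(W₁ ⊔ W₂) →* ℂˣ)
  obtain ⟨R, hR, -⟩ := h.exists_system hc hη
    (S := Cfsg.inducedIrrAbove (kernel M) ⊥) subset_rfl (by
      obtain ⟨ψ, hψ⟩ : ∃ ψ, ψ ∈ (Finset.univ.filter fun f : ↥(W₁ ⊔ W₂) →* ℂˣ => IsQ f).erase 1 := by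
        refine Finset.card_pos.1 ?_
        rw [Finset.card_erase_of_mem (by simp [isQ_one]), card_isQ h.selfNormalizing]
        have := three_le_card h.selfNormalizing.2.1 (odd_factors h.odd_W).2
        omega
      simp only [Finset.mem_erase, Finset.mem_filter, Finset.mem_univ, true_and] at hψ
      refine ⟨_, IsChars.theta μ (kernel M) (pull ψ), hc.theta_irr h.plike _, ?_, ?_, rfl⟩
      · intro e
        refine hψ.1 ((pull_bijective h.le₁ h.le₂).1 (hc.theta_inj h.plike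
          ((isQ_pull h.le₁ h.le₂).2 hψ.2) ((isQ_pull h.le₁ h.le₂).2 isQ_one) ?_))
        rw [e, pull_one, hc.theta_one h.plike]
      · intro a ha
        rw [show a = 1 from Subtype.ext (Subgroup.mem_bot.1 ha)])
    (fun χ hχ => by
      obtain ⟨θ, h1, h2, h3, rfl⟩ := hχ
      refine ⟨Cfsg.conjFun θ, Inner.conjFun_irr h1, fun e => h2 ?_,
        fun a ha => congrArg (starRingEnd ℂ) (h3 a ha), ?_⟩
      · rw [← Inner.conjFun_conjFun θ, e]
        exact funext fun _ => map_one _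
      · funext g
        exact indFun_conj_fun (kernel M) θ g)
    (fun χ hχ => h.supp_subset (fun x hx hx1 =>
      derived_subset_typeA0 hP hcore hx (fun r => hx1 (Subtype.ext r))) hχ)
  exact ⟨R, hR⟩

/-- (5.9) on `S(A)` with `H` outside the kernel. -/
theorem system_seqS [Fintype M] {H : Subgroup M}
    (h : Hyp M (kernel M) H W₁ W₂ (Cfsg.Agent.Lib.OddOrder.TypeOne.typeA0 M) (Cfsg.supportR M))
    (A : Subgroup M) (hne : (PF9Char.seqS (kernel M) H A).Nonempty) :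
    ∃ R, Cfsg.IsCoherenceSystem (PF9Char.seqS (kernel M) H A) (Interface.PF11.tau M) R := by
  classical
  haveI := h.K_normal
  obtain ⟨μ, δ, hc⟩ := exists_chars (L := ↥M) (kernel M) (W₁.subgroupOf M) (W₂.subgroupOf M) h.plike
  obtain ⟨η, hη⟩ := exists_family (G := G) h.selfNormalizing h.odd_W
  haveI := finite_hom (G := G) (W₁ := W₁) (W₂ := W₂)
  haveI := Fintype.ofFinite (↥(W₁ ⊔ W₂) →* ℂˣ)
  obtain ⟨R, hR, -⟩ := h.exists_system hc hη (S := PF9Char.seqS (kernel M) H A)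
    (fun χ hχ => by
      obtain ⟨θ, h1, -, ⟨x, -, hx⟩, rfl⟩ := hχ
      exact ⟨θ, h1, fun e => hx (by rw [e]), fun a ha => by
        rw [show a = 1 from Subtype.ext (Subgroup.mem_bot.1 ha)], rfl⟩)
    hne
    (fun χ hχ => by
      obtain ⟨θ, h1, h3, ⟨x, hxH, hx⟩, rfl⟩ := hχ
      refine ⟨Cfsg.conjFun θ, Inner.conjFun_irr h1,
        fun a ha => congrArg (starRingEnd ℂ) (h3 a ha),
        ⟨x, hxH, fun e => hx ?_⟩, ?_⟩
      · exact (starRingEnd ℂ).injective e
      · funext g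
        exact indFun_conj_fun (kernel M) θ g)
    (fun χ hχ => by
      obtain ⟨θ, h1, -, hker, rfl⟩ := hχ
      exact h.supp_not_ker h1 hker)
  exact ⟨R, hR⟩

end Cfsg.Agent.Lib.OddOrder.PrimeDade.Instance
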