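import Cfsg.Agent.Lib.Characters.Complete
import Cfsg.Agent.Lib.Characters.Kernel

/-!
# Irreducible characters vanish where the centralizer meets a normal subgroup trivially

If `C_N(x) = 1` for a normal subgroup `N`, an irreducible character whose kernel does not contain
`N` vanishes at `x`: the columns at `x` in the tables of `G` and `G ⧸ N` have the same norm.
-/

set_option autoImplicit false
set_option linter.style.haveILetI false

namespace Cfsg.Agent.Lib.OddOrder.PrimeDade.Vanish

open scoped ComplexConjugate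
open Cfsg.Agent.Lib.Characters

universe u

variable {G : Type u} [Group G] [Finite G]

theorem column_norm [Fintype (Cfsg.IrrCharacter G)] (x : G) :
    ∑ χ : Cfsg.IrrCharacter G, Complex.normSq ((χ : G → ℂ) x) =
      (Nat.card (Subgroup.centralizer ({x} : Set G)) : ℝ) := by
  classical
  have h := Complete.sum_irr_mul_conj x x
  rw [if_pos (IsConj.refl x)] at h
  simp only [Complex.mul_conj] at h
  exact_mod_cast h

/-- The vanishing lemma. -/
theorem vanish (N : Subgroup G) [N.Normal] {χ : G → ℂ} (hχ : Cfsg.IsIrrCharacter G χ)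
    (hN : ∃ n ∈ N, χ n ≠ χ 1) {x : G} (hx : ∀ n ∈ N, n * x = x * n → n = 1) : χ x = 0 := by
  classical
  haveI : Fintype G := Fintype.ofFinite G
  haveI := Fintype.ofFinite (Cfsg.IrrCharacter G)
  haveI := Fintype.ofFinite (Cfsg.IrrCharacter (G ⧸ N))
  set p : Cfsg.IrrCharacter G → Prop := fun φ => ∀ g ∈ N, (φ : G → ℂ) g = (φ : G → ℂ) 1
  have hsplit := column_norm x
  rw [← Fintype.sum_subtype_add_sum_subtype p] at hsplit
  have hin : ∑ φ : {φ // p φ}, Complex.normSq ((φ.1 : G → ℂ) x) =
      (Nat.card (Subgroup.centralizer ({(x : G ⧸ N)} : Set (G ⧸ N))) : ℝ) := by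
    rw [← column_norm (x : G ⧸ N), ← (Kernel.inflateEquiv N).sum_comp]
    rfl
  rw [hin] at hsplit
  have hle : Nat.card (Subgroup.centralizer ({x} : Set G)) ≤
      Nat.card (Subgroup.centralizer ({(x : G ⧸ N)} : Set (G ⧸ N))) := by
    refine Nat.card_le_card_of_injective (fun c => ⟨((c : G) : G ⧸ N), ?_⟩) fun a b e => ?_
    · rw [Subgroup.mem_centralizer_singleton_iff, ← QuotientGroup.mk_mul, ← QuotientGroup.mk_mul,
        Subgroup.mem_centralizer_singleton_iff.1 c.2]
    · have e' : ((a : G) : G ⧸ N) = ((b : G) : G ⧸ N) := congrArg Subtype.val e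
      have h1 := hx _ (QuotientGroup.eq.1 e') (Subgroup.mem_centralizer_singleton_iff.1
        (Subgroup.mul_mem _ (Subgroup.inv_mem _ a.2) b.2))
      exact Subtype.ext (inv_mul_eq_one.1 h1)
  have hz : ∑ φ : {φ // ¬ p φ}, Complex.normSq ((φ.1 : G → ℂ) x) = 0 := by
    refine le_antisymm ?_ (Finset.sum_nonneg fun φ _ => Complex.normSq_nonneg _)
    have : ((Nat.card (Subgroup.centralizer ({x} : Set G)) : ℕ) : ℝ) ≤
        (Nat.card (Subgroup.centralizer ({(x : G ⧸ N)} : Set (G ⧸ N))) : ℕ) := by exact_mod_cast hle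
    linarith
  obtain ⟨n, hn, hne⟩ := hN
  have := (Finset.sum_eq_zero_iff_of_nonneg fun φ _ => Complex.normSq_nonneg _).1 hz
    ⟨⟨χ, hχ⟩, fun h => hne (h n hn)⟩ (Finset.mem_univ _)
  exact Complex.normSq_eq_zero.1 this

end Cfsg.Agent.Lib.OddOrder.PrimeDade.Vanish
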