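import Cfsg.Agent.Lib.CyclicTI.Invariant
import Cfsg.Agent.Lib.Induced.Mackey
import Cfsg.Agent.Lib.OddOrder.PrimeDade.Vanish

/-!
# Peterfalvi (4.5), (4.7): the characters of `L = K ⋊ W₁`

`μ ω` are the irreducible characters attached to the linear characters of `W = W₁W₂`, `δ ω` their
signs.  The restriction of `μ ψ` to `K` is irreducible; these are exactly the irreducible characters
of `K` which do not induce irreducibly.
-/

set_option autoImplicit false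
set_option linter.style.haveILetI false

namespace Cfsg.Agent.Lib.OddOrder.PrimeDade

open scoped ComplexConjugate
open Cfsg.Agent.Lib.CyclicTI
open Cfsg.Agent.Lib.Induced.Basic Cfsg.Agent.Lib.Characters.Basic

universe u

section

variable {L : Type u} [Group L] [Fintype L] (K W₁ W₂ : Subgroup L)

/-- The properties of `μ` and `δ`. -/
structure IsChars (μ : (↥(W₁ ⊔ W₂) →* ℂˣ) → (L → ℂ)) (δ : (↥(W₁ ⊔ W₂) →* ℂˣ) → ℂ) : Prop where
  inj : Function.Injective μ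
  irr : ∀ ω, Cfsg.IsIrrCharacter L (μ ω)
  sign : ∀ ω, δ ω = 1 ∨ δ ω = -1
  diff : ∀ ω ω' : ↥(W₁ ⊔ W₂) →* ℂˣ, (∀ w : ↥(W₁ ⊔ W₂), (w : L) ∈ W₂ → ω w = ω' w) →
    δ ω = δ ω' ∧ Cfsg.indFun (W₁ ⊔ W₂) (lin ω - lin ω') = δ ω • (μ ω - μ ω')
  value : ∀ ω, ∀ w : ↥(W₁ ⊔ W₂), (w : L) ∉ W₂ → μ ω w = δ ω * (ω w : ℂ)
  vanish : ∀ θ : L → ℂ, Cfsg.IsIrrCharacter L θ → (∀ ω, θ ≠ μ ω) →
    ∀ w : ↥(W₁ ⊔ W₂), (w : L) ∉ W₂ → θ w = 0
  degree : ∀ ω, ∃ n : ℤ, μ ω 1 - δ ω = n * (Nat.card W₁ : ℂ)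

theorem exists_chars [K.Normal] (h : IsPLike K W₁ W₂) : ∃ μ δ, IsChars W₁ W₂ μ δ := by
  obtain ⟨μ, δ, a, b, c, d, e, f, g⟩ := h.exists_characters
  exact ⟨μ, δ, a, b, c, d, e, f, g⟩

end

variable {L : Type u} [Group L] [Fintype L] {K W₁ W₂ : Subgroup L} [hK : K.Normal]
  {μ : (↥(W₁ ⊔ W₂) →* ℂˣ) → (L → ℂ)} {δ : (↥(W₁ ⊔ W₂) →* ℂˣ) → ℂ}

namespace IsChars

theorem classFun (hc : IsChars W₁ W₂ μ δ) (ω : ↥(W₁ ⊔ W₂) →* ℂˣ) :
    Cfsg.IsClassFunction L (μ ω) :=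
  isClassFunction_irr ⟨μ ω, hc.irr ω⟩

theorem sign_sq (hc : IsChars W₁ W₂ μ δ) (ω : ↥(W₁ ⊔ W₂) →* ℂˣ) : δ ω * δ ω = 1 := by
  rcases hc.sign ω with e | e <;> simp [e]

theorem sign_ne (hc : IsChars W₁ W₂ μ δ) (ω : ↥(W₁ ⊔ W₂) →* ℂˣ) : δ ω ≠ 0 := by
  rcases hc.sign ω with e | e <;> simp [e]

theorem sign_conj (hc : IsChars W₁ W₂ μ δ) (ω : ↥(W₁ ⊔ W₂) →* ℂˣ) : conj (δ ω) = δ ω := by
  rcases hc.sign ω with e | e <;> simp [e]

/-- The sign depends only on the restriction to `W₂`. -/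
theorem sign_eq (hc : IsChars W₁ W₂ μ δ) {φ : ↥(W₁ ⊔ W₂) →* ℂˣ} (hφ : IsP φ)
    (ψ : ↥(W₁ ⊔ W₂) →* ℂˣ) : δ (φ * ψ) = δ ψ :=
  (hc.diff (φ * ψ) ψ fun w hw => by rw [MonoidHom.mul_apply, hφ w hw, one_mul]).1

/-- The restriction to `K` depends only on the restriction to `W₂`. -/
theorem agree (h : IsPLike K W₁ W₂) (hc : IsChars W₁ W₂ μ δ) {φ : ↥(W₁ ⊔ W₂) →* ℂˣ} (hφ : IsP φ)
    (ψ : ↥(W₁ ⊔ W₂) →* ℂˣ) {k : L} (hk : k ∈ K) : μ (φ * ψ) k = μ ψ k := by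
  obtain ⟨-, e⟩ := hc.diff (φ * ψ) ψ fun w hw => by rw [MonoidHom.mul_apply, hφ w hw, one_mul]
  have h0 : Cfsg.indFun (W₁ ⊔ W₂) (lin (φ * ψ) - lin ψ) k = 0 := by
    rw [indFun_congr (θ' := 0) (W₁ ⊔ W₂) k ?_, indFun_zero, Pi.zero_apply]
    intro x hx
    have hx2 : x⁻¹ * k * x ∈ W₂ := (h.mem_K_iff ⟨_, hx⟩).1 (by
      simpa using hK.conj_mem k hk x⁻¹)
    simp [lin, hφ ⟨_, hx⟩ hx2]
  rw [e, Pi.smul_apply, Pi.sub_apply, smul_eq_mul, mul_eq_zero] at h0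
  exact sub_eq_zero.1 (h0.resolve_left (hc.sign_ne _))

theorem one_eq (h : IsPLike K W₁ W₂) (hc : IsChars W₁ W₂ μ δ) {φ : ↥(W₁ ⊔ W₂) →* ℂˣ} (hφ : IsP φ)
    (ψ : ↥(W₁ ⊔ W₂) →* ℂˣ) : μ (φ * ψ) 1 = μ ψ 1 :=
  hc.agree h hφ ψ K.one_mem

/-- An element of `W₁#` and its square lie outside `W₂`. -/
theorem exists_pair (h : IsPLike K W₁ W₂) : ∃ a : ↥(W₁ ⊔ W₂), (a : L) ∈ W₁ ∧
    (a : L) ∉ W₂ ∧ ((a * a : ↥(W₁ ⊔ W₂)) : L) ∉ W₂ := by
  obtain ⟨⟨x, hx⟩, hx1⟩ := Subgroup.ne_bot_iff_exists_ne_one.1 h.ne₁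
  have hx1' : x ≠ 1 := fun e => hx1 (Subtype.ext e)
  have hW := h.selfNormalizing
  refine ⟨⟨x, Subgroup.mem_sup_left hx⟩, hx, fun hm => hx1' (eq_one_of_mem hW hx hm), fun hm => ?_⟩
  have h2 : x * x = 1 := eq_one_of_mem hW (W₁.mul_mem hx hx) hm
  have hd : orderOf x ∣ 2 := orderOf_dvd_iff_pow_eq_one.2 (by rw [pow_two, h2])
  have hdd : orderOf x ∣ Nat.card ↥(W₁ ⊔ W₂) :=
    Subgroup.orderOf_dvd_natCard _ (Subgroup.mem_sup_left hx)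
  rcases (Nat.dvd_prime Nat.prime_two).1 hd with e | e
  · exact hx1' (orderOf_eq_one_iff.1 e)
  · rw [e] at hdd
    exact (Nat.not_even_iff_odd.2 h.odd) (even_iff_two_dvd.2 hdd)

/-- Identification of `μ ω` from its values on `W ∖ W₂`. -/
theorem eq_of_value (h : IsPLike K W₁ W₂) (hc : IsChars W₁ W₂ μ δ) {χ : L → ℂ}
    (hχ : Cfsg.IsIrrCharacter L χ) {c : ℂ} (hc0 : c ≠ 0) {ω : ↥(W₁ ⊔ W₂) →* ℂˣ}
    (hv : ∀ w : ↥(W₁ ⊔ W₂), (w : L) ∉ W₂ → χ w = c * (ω w : ℂ)) : χ = μ ω ∧ c = δ ω := by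
  obtain ⟨a, ha1, ha, haa⟩ := exists_pair h
  obtain ⟨ω', hω'⟩ : ∃ ω', χ = μ ω' := by
    by_contra hne
    push Not at hne
    have h0 := hc.vanish χ hχ hne a ha
    rw [hv a ha] at h0
    exact mul_ne_zero hc0 (Units.ne_zero _) h0
  have key : ∀ w : ↥(W₁ ⊔ W₂), (w : L) ∉ W₂ → δ ω' * (ω' w : ℂ) = c * (ω w : ℂ) := fun w hw => by
    rw [← hc.value ω' w hw, ← hω', hv w hw]
  have e1 := key a ha
  have e2 := key (a * a) haa
  simp only [map_mul, Units.val_mul] at e2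
  have hcd : c = δ ω' := by
    have hd2 := hc.sign_sq ω'
    refine mul_right_cancel₀ (mul_ne_zero (Units.ne_zero (ω a)) (Units.ne_zero (ω a))) ?_
    refine mul_left_cancel₀ hc0 ?_
    calc c * (c * ((ω a : ℂ) * (ω a : ℂ))) = (c * (ω a : ℂ)) * (c * (ω a : ℂ)) := by ring
      _ = δ ω' * (δ ω' * ((ω' a : ℂ) * (ω' a : ℂ))) := by rw [← e1]; ring
      _ = δ ω' * (c * ((ω a : ℂ) * (ω a : ℂ))) := by rw [e2]
      _ = c * (δ ω' * ((ω a : ℂ) * (ω a : ℂ))) := by ring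
  have hoff : ∀ w : ↥(W₁ ⊔ W₂), (w : L) ∉ W₂ → ω' w = ω w := fun w hw => by
    refine Units.ext (mul_left_cancel₀ (hc.sign_ne ω') ?_)
    rw [key w hw, hcd]
  have hall : ω' = ω := by
    ext w
    by_cases hw : (w : L) ∈ W₂
    · have hwa : ((w * a : ↥(W₁ ⊔ W₂)) : L) ∉ W₂ := fun hm => ha (by
        simpa using W₂.mul_mem (W₂.inv_mem hw) hm)
      have := hoff _ hwa
      rw [map_mul, map_mul, hoff a ha] at this
      exact congrArg Units.val (mul_right_cancel this)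
    · exact congrArg Units.val (hoff w hw)
  subst hall
  exact ⟨hω', hcd⟩

theorem one_eq_one (h : IsPLike K W₁ W₂) (hc : IsChars W₁ W₂ μ δ) :
    μ 1 = (fun _ => 1) ∧ δ 1 = 1 := by
  obtain ⟨a, b⟩ := hc.eq_of_value h (oneChar L).2 one_ne_zero (ω := 1) fun w _ => by simp [oneChar_apply]
  exact ⟨a.symm, b.symm⟩

/-- Conjugation. -/
theorem conj_mu (h : IsPLike K W₁ W₂) (hc : IsChars W₁ W₂ μ δ) (ω : ↥(W₁ ⊔ W₂) →* ℂˣ) :
    Cfsg.conjFun (μ ω) = μ ω⁻¹ ∧ δ ω⁻¹ = δ ω := by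
  obtain ⟨a, b⟩ := hc.eq_of_value h (Isometry.Inner.conjFun_irr (hc.irr ω)) (hc.sign_ne ω)
    (ω := ω⁻¹) fun w hw => by
      show conj (μ ω w) = _
      rw [hc.value ω w hw, map_mul, hc.sign_conj]
      congr 1
      have hn : ‖(ω w : ℂ)‖ = 1 := Complex.norm_eq_one_of_pow_eq_one
        (n := orderOf w) (by rw [← Units.val_pow_eq_pow_val, ← map_pow, pow_orderOf_eq_one, map_one,
          Units.val_one]) (orderOf_pos w).ne'
      rw [MonoidHom.inv_apply, Units.val_inv_eq_inv_val, Complex.inv_eq_conj hn]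
  exact ⟨a, b.symm⟩

theorem value_ne_zero (hc : IsChars W₁ W₂ μ δ) (ω : ↥(W₁ ⊔ W₂) →* ℂˣ) {w : ↥(W₁ ⊔ W₂)}
    (hw : (w : L) ∉ W₂) : μ ω w ≠ 0 := by
  rw [hc.value ω w hw]
  exact mul_ne_zero (hc.sign_ne ω) (Units.ne_zero _)

/-- An irreducible character which vanishes off `K` is none of the `μ ω`. -/
theorem ne_of_vanish_off (h : IsPLike K W₁ W₂) (hc : IsChars W₁ W₂ μ δ) {χ : L → ℂ}
    (hχ : ∀ g : L, g ∉ K → χ g = 0) (ω : ↥(W₁ ⊔ W₂) →* ℂˣ) : χ ≠ μ ω := by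
  obtain ⟨a, -, ha, -⟩ := exists_pair h
  rintro rfl
  exact hc.value_ne_zero ω ha (hχ a fun hm => ha ((h.mem_K_iff a).1 hm))

/-- The restriction of `μ ψ` to `K`. -/
def theta (μ : (↥(W₁ ⊔ W₂) →* ℂˣ) → (L → ℂ)) (K : Subgroup L) (ψ : ↥(W₁ ⊔ W₂) →* ℂˣ) : K → ℂ :=
  fun k => μ ψ k

/-- (4.5)(a). -/
theorem theta_irr (h : IsPLike K W₁ W₂) (hc : IsChars W₁ W₂ μ δ) (ψ : ↥(W₁ ⊔ W₂) →* ℂˣ) :
    Cfsg.IsIrrCharacter K (theta μ K ψ) := by
  classical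
  haveI := Fintype.ofFinite K
  have hnorm : ∀ g : L, g ∉ K → μ ψ g * conj (μ ψ g) = 1 := by
    intro g hg
    obtain ⟨x, w, hw, e⟩ := h.exists_conj_mem hg
    rw [← hc.classFun ψ g x, e, hc.value ψ w hw]
    have hn : ‖(ψ w : ℂ)‖ = 1 := Complex.norm_eq_one_of_pow_eq_one
      (n := orderOf w) (by rw [← Units.val_pow_eq_pow_val, ← map_pow, pow_orderOf_eq_one, map_one,
        Units.val_one]) (orderOf_pos w).ne'
    have hsq : (ψ w : ℂ) * conj (ψ w : ℂ) = 1 := by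
      rw [Complex.mul_conj, Complex.normSq_eq_norm_sq, hn]
      norm_num
    rw [map_mul, hc.sign_conj]
    linear_combination ((ψ w : ℂ) * conj (ψ w : ℂ)) * hc.sign_sq ψ + hsq
  refine isIrrCharacter_of_classInner_self
    (isCharacter_comp K.subtype (IsCharacter_of_isIrrCharacter (hc.irr ψ))) ?_
  have e1 := classInner_self_irr ⟨μ ψ, hc.irr ψ⟩
  rw [Cfsg.classInner, inv_mul_eq_iff_eq_mul₀ natCard_ne_zero, mul_one] at e1
  simp only at e1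
  rw [← Finset.sum_filter_add_sum_filter_not Finset.univ (fun g : L => g ∈ K),
    Finset.sum_congr rfl (fun g hg => hnorm g (Finset.mem_filter.1 hg).2),
    Finset.sum_subtype (p := fun g : L => g ∈ K) _ (fun g => by simp) ] at e1
  have hc1 : ((Finset.univ.filter fun g : L => g ∈ K).card : ℂ) = Nat.card K := by
    rw [Nat.card_eq_fintype_card, Fintype.card_subtype]
  have hc2 : ((Finset.univ.filter fun g : L => g ∈ K).card : ℂ) +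
      ((Finset.univ.filter fun g : L => g ∉ K).card : ℂ) = Nat.card L := by
    rw [← Nat.cast_add, Finset.card_filter_add_card_filter_not, Nat.card_eq_fintype_card,
      Finset.card_univ]
  show Cfsg.classInner (theta μ K ψ) (theta μ K ψ) = 1
  rw [Cfsg.classInner, inv_mul_eq_iff_eq_mul₀ (subgroup_card_ne_zero K), mul_one, ← hc1]
  simp only [Finset.sum_const, nsmul_eq_mul, mul_one] at e1
  show ∑ k : K, μ ψ k * conj (μ ψ k) = _
  linear_combination e1 - hc2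

theorem theta_fix (hc : IsChars W₁ W₂ μ δ) (ψ : ↥(W₁ ⊔ W₂) →* ℂˣ) (g : L) :
    Clifford.Basic.conjC K g (theta μ K ψ) = theta μ K ψ :=
  funext fun k => hc.classFun ψ k g

variable [Fintype (↥(W₁ ⊔ W₂) →* ℂˣ)]

open scoped Classical

/-- (4.5)(b). -/
theorem ind_theta (h : IsPLike K W₁ W₂) (hc : IsChars W₁ W₂ μ δ) (ψ : ↥(W₁ ⊔ W₂) →* ℂˣ) :
    Cfsg.indFun K (theta μ K ψ) = ∑ φ : ↥(W₁ ⊔ W₂) →* ℂˣ with IsP φ, μ (φ * ψ) := by
  classical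
  have hW := h.selfNormalizing
  funext g
  rw [Finset.sum_apply]
  by_cases hg : g ∈ K
  · have e : ∀ x : L, Cfsg.extendByZero K (theta μ K ψ) (x⁻¹ * g * x) = μ ψ g := fun x => by
      rw [extendByZero_of_mem K _ (by simpa using hK.conj_mem g hg x⁻¹)]
      simpa [theta] using hc.classFun ψ g x⁻¹
    simp only [Cfsg.indFun, e, Finset.sum_const, Finset.card_univ, nsmul_eq_mul]
    rw [Finset.sum_congr rfl (fun φ hφ => hc.agree h (Finset.mem_filter.1 hφ).2 ψ hg),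
      Finset.sum_const, nsmul_eq_mul, card_isP hW, Fintype.card_eq_nat_card, ← K.card_mul_index,
      h.index_eq, Nat.cast_mul, ← mul_assoc, ← mul_assoc,
      inv_mul_cancel₀ (subgroup_card_ne_zero K), one_mul]
  · rw [indFun_eq_zero_of_not_mem_normal K _ hg]
    obtain ⟨x, w, hw, e⟩ := h.exists_conj_mem hg
    have e' : ∀ φ ∈ (Finset.univ.filter fun φ : ↥(W₁ ⊔ W₂) →* ℂˣ => IsP φ),
        μ (φ * ψ) g = δ ψ * (ψ w : ℂ) * (φ w : ℂ) := fun φ hφ => by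
      rw [← hc.classFun (φ * ψ) g x, e, hc.value _ w hw, hc.sign_eq (Finset.mem_filter.1 hφ).2]
      simp only [MonoidHom.mul_apply, Units.val_mul]
      ring
    rw [Finset.sum_congr rfl e', ← Finset.mul_sum, sum_isP hW w, if_neg hw, mul_zero]

/-- The inner product of `μ`'s with an induced `theta`. -/
theorem inner_ind_theta (h : IsPLike K W₁ W₂) (hc : IsChars W₁ W₂ μ δ)
    {ψ ψ' : ↥(W₁ ⊔ W₂) →* ℂˣ} (hψ : IsQ ψ) (hψ' : IsQ ψ') :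
    Cfsg.classInner (Cfsg.indFun K (theta μ K ψ)) (μ ψ') = if ψ = ψ' then 1 else 0 := by
  classical
  rw [hc.ind_theta h ψ, classInner_sum_left]
  have e1 : ∀ φ ∈ (Finset.univ.filter fun φ : ↥(W₁ ⊔ W₂) →* ℂˣ => IsP φ),
      Cfsg.classInner (μ (φ * ψ)) (μ ψ') = if φ = 1 then (if ψ = ψ' then 1 else 0) else 0 := by
    intro φ hφ
    rw [Isometry.Inner.classInner_irr_eq (hc.irr _) (hc.irr _), ← ite_and]
    exact if_congr (by rw [hc.inj.eq_iff, eq_mul_iff' (Finset.mem_filter.1 hφ).2 hψ hψ']) rfl rfl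
  rw [Finset.sum_congr rfl e1, Finset.sum_ite_eq',
    if_pos (Finset.mem_filter.2 ⟨Finset.mem_univ _, isP_one⟩)]

omit [Fintype (↥(W₁ ⊔ W₂) →* ℂˣ)] in
theorem theta_inj (h : IsPLike K W₁ W₂) (hc : IsChars W₁ W₂ μ δ)
    {ψ ψ' : ↥(W₁ ⊔ W₂) →* ℂˣ} (hψ : IsQ ψ) (hψ' : IsQ ψ')
    (he : theta μ K ψ = theta μ K ψ') : ψ = ψ' := by
  classical
  haveI := finite_hom (G := L) (W₁ := W₁) (W₂ := W₂)
  haveI := Fintype.ofFinite (↥(W₁ ⊔ W₂) →* ℂˣ)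
  by_contra hne
  have h1 := hc.inner_ind_theta h hψ hψ
  rw [he, hc.inner_ind_theta h hψ' hψ, if_pos rfl, if_neg (Ne.symm hne)] at h1
  exact zero_ne_one h1

omit [Fintype (↥(W₁ ⊔ W₂) →* ℂˣ)] in
/-- An irreducible character of `K` induces irreducibly or is some `theta ψ`. -/
theorem irr_or_theta (h : IsPLike K W₁ W₂) (hc : IsChars W₁ W₂ μ δ) {θ : K → ℂ}
    (hθ : Cfsg.IsIrrCharacter K θ) :
    Cfsg.IsIrrCharacter L (Cfsg.indFun K θ) ∨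
      ∃ ψ : ↥(W₁ ⊔ W₂) →* ℂˣ, IsQ ψ ∧ θ = theta μ K ψ := by
  classical
  haveI := Fintype.ofFinite K
  haveI := finite_hom (G := L) (W₁ := W₁) (W₂ := W₂)
  haveI := Fintype.ofFinite (↥(W₁ ⊔ W₂) →* ℂˣ)
  obtain ⟨Q, hQf, f, hQ, hfinj, hfirr, hffix, -, hall⟩ := h.exists_invariant
  haveI := Fintype.ofFinite Q
  refine or_iff_not_imp_left.2 fun hirr => ?_
  obtain ⟨g, hgK, hg⟩ : ∃ g ∉ K, Clifford.Basic.conjC K g θ = θ := by
    by_contra hne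
    push Not at hne
    refine hirr (Cfsg.Agent.Lib.Induced.Mackey.isIrrCharacter_indFun K hθ fun g hg => ?_)
    by_contra hgK
    exact hne g hgK hg
  obtain ⟨k, hk, v, hv, rfl⟩ : ∃ k ∈ K, ∃ v ∈ W₁, k * v = g :=
    Subgroup.mem_sup_of_normal_left.mp (h.sup_eq ▸ Subgroup.mem_top g)
  have hv1 : v ≠ 1 := fun e => hgK (by rw [e, mul_one]; exact hk)
  rw [Clifford.Basic.conjC_mul, Clifford.Basic.conjC_of_mem K
    (isClassFunction_irr ⟨θ, hθ⟩) hk] at hg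
  obtain ⟨q, rfl⟩ := hall θ v hθ hv hv1 hg
  choose F hF using fun ψ : {ψ : ↥(W₁ ⊔ W₂) →* ℂˣ // IsQ ψ} =>
    hall (theta μ K ψ.1) v (hc.theta_irr h ψ.1) hv hv1 (hc.theta_fix ψ.1 v)
  have hFinj : Function.Injective F := fun a b e =>
    Subtype.ext (hc.theta_inj h a.2 b.2 (by rw [hF a, hF b, e]))
  have hsurj : Function.Surjective F := (hFinj.bijective_of_nat_card_le (by
    rw [hQ, ← card_isQ h.selfNormalizing, Nat.card_eq_fintype_card (α := {ψ : ↥(W₁ ⊔ W₂) →* ℂˣ // IsQ ψ}),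
      Fintype.card_subtype])).2
  obtain ⟨ψ, rfl⟩ := hsurj q
  exact ⟨ψ.1, ψ.2, (hF ψ).symm⟩

omit [Fintype (↥(W₁ ⊔ W₂) →* ℂˣ)] in
/-- An induced `theta` is reducible. -/
theorem ind_theta_not_irr (h : IsPLike K W₁ W₂) (hc : IsChars W₁ W₂ μ δ)
    {ψ : ↥(W₁ ⊔ W₂) →* ℂˣ} (hψ : IsQ ψ) :
    ¬ Cfsg.IsIrrCharacter L (Cfsg.indFun K (theta μ K ψ)) := by
  classical
  haveI := finite_hom (G := L) (W₁ := W₁) (W₂ := W₂)
  haveI := Fintype.ofFinite (↥(W₁ ⊔ W₂) →* ℂˣ)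
  intro hirr
  have h1 := hc.inner_ind_theta h hψ hψ
  rw [Isometry.Inner.classInner_irr_eq hirr (hc.irr ψ), if_pos rfl,
    if_neg (hc.ne_of_vanish_off h (fun g hg => indFun_eq_zero_of_not_mem_normal K _ hg) ψ)] at h1
  exact zero_ne_one h1

omit [Fintype (↥(W₁ ⊔ W₂) →* ℂˣ)] in
theorem theta_one (h : IsPLike K W₁ W₂) (hc : IsChars W₁ W₂ μ δ) :
    theta μ K 1 = fun _ => 1 := by
  funext k
  simp [theta, (hc.one_eq_one h).1]

omit [Fintype (↥(W₁ ⊔ W₂) →* ℂˣ)] in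
/-- For `ψ ≠ 1` a normal subgroup above `W₂` is not in the kernel of `theta ψ`. -/
theorem theta_ker (h : IsPLike K W₁ W₂) (hc : IsChars W₁ W₂ μ δ) (H : Subgroup L) [H.Normal]
    (hHK : H ≤ K) (hW₂H : W₂ ≤ H) {ψ : ↥(W₁ ⊔ W₂) →* ℂˣ} (hψ : IsQ ψ) (hψ1 : ψ ≠ 1) :
    ∃ x : K, (x : L) ∈ H ∧ theta μ K ψ x ≠ theta μ K ψ 1 := by
  by_contra hne
  push Not at hne
  obtain ⟨f, -, hf, -⟩ := Characters.Kernel.exists_descend H
    (IsCharacter_of_isIrrCharacter (hc.irr ψ)) (fun g hg => hne ⟨g, hHK hg⟩ hg)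
  obtain ⟨a, ha1, ha, -⟩ := exists_pair h
  refine hψ1 (hom_ext (fun w hw => by rw [hψ w hw, MonoidHom.one_apply]) fun w hw => ?_)
  have hwa : ((a * w : ↥(W₁ ⊔ W₂)) : L) ∉ W₂ := fun hm => ha (by
    simpa using W₂.mul_mem hm (W₂.inv_mem hw))
  have e : μ ψ ((a * w : ↥(W₁ ⊔ W₂)) : L) = μ ψ (a : L) := by
    rw [← hf]
    simp only [Function.comp_apply, Subgroup.coe_mul, map_mul]
    rw [show QuotientGroup.mk' H (w : L) = 1 from (QuotientGroup.eq_one_iff _).2 (hW₂H hw), mul_one]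
  rw [hc.value _ _ hwa, hc.value _ _ ha, map_mul, hψ a ha1, one_mul, Units.val_one] at e
  exact Units.ext (mul_left_cancel₀ (hc.sign_ne ψ) e)

end IsChars

/-- (4.7)(a): an irreducible character of `K` without `H` in its kernel vanishes at the elements
centralizing no non-trivial element of `H`. -/
theorem vanish_theta {L : Type u} [Group L] [Fintype L] {K : Subgroup L} (H : Subgroup L)
    [H.Normal] {θ : K → ℂ} (hθ : Cfsg.IsIrrCharacter K θ)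
    (hker : ∃ x : K, (x : L) ∈ H ∧ θ x ≠ θ 1) {x : K}
    (hx : ∀ n ∈ H, n * (x : L) = x * n → n = 1) : θ x = 0 := by
  obtain ⟨n, hn, hne⟩ := hker
  exact Vanish.vanish (H.subgroupOf K) hθ ⟨n, Subgroup.mem_subgroupOf.2 hn, hne⟩
    fun m hm e => Subtype.ext (hx m (Subgroup.mem_subgroupOf.1 hm) (congrArg Subtype.val e))

/-- (4.7)(c): the characters induced from `K` vanish off the elements of `K` centralizing a
non-trivial element of `H`. -/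
theorem vanish_ind {L : Type u} [Group L] [Fintype L] {K : Subgroup L} [K.Normal]
    (H : Subgroup L) [hH : H.Normal] {θ : K → ℂ} (hθ : Cfsg.IsIrrCharacter K θ)
    (hker : ∃ x : K, (x : L) ∈ H ∧ θ x ≠ θ 1) {g : L}
    (hg : ∀ n ∈ H, n * g = g * n → n = 1) : Cfsg.indFun K θ g = 0 := by
  rw [Cfsg.indFun, Finset.sum_eq_zero, mul_zero]
  intro x _
  by_cases hm : x⁻¹ * g * x ∈ K
  · rw [extendByZero_of_mem K _ hm]
    refine vanish_theta H hθ hker fun n hn e => ?_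
    have := hg (x * n * x⁻¹) (hH.conj_mem n hn x) ?_
    · simpa using this
    · calc x * n * x⁻¹ * g = x * (n * (x⁻¹ * g * x)) * x⁻¹ := by group
        _ = x * ((x⁻¹ * g * x) * n) * x⁻¹ := by rw [e]
        _ = g * (x * n * x⁻¹) := by group
  · exact extendByZero_of_not_mem K _ hm

end Cfsg.Agent.Lib.OddOrder.PrimeDade
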