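import Cfsg.Agent.Lib.OddOrder.PrimeDade.Tau
import Cfsg.Agent.Lib.Characters.Indicator

/-!
# The members of `inducedIrrAbove K ⊥`: induced irreducibles and the sums `X ψ` of the `μ`'s
-/

set_option autoImplicit false
set_option linter.style.haveILetI false

namespace Cfsg.Agent.Lib.OddOrder.PrimeDade.Hyp

open scoped ComplexConjugate
open Cfsg.Agent.Lib.CyclicTI Cfsg.Agent.Lib.Isometry
open Cfsg.Agent.Lib.Induced.Basic Cfsg.Agent.Lib.Characters.Basic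

universe u

variable {G : Type u} [Group G] [Fintype G] {M : Subgroup G} [Fintype M] {K H : Subgroup M}
  {W₁ W₂ : Subgroup G} {A : Set G} {R : G → Subgroup G}
  {μ : (↥(W₁.subgroupOf M ⊔ W₂.subgroupOf M) →* ℂˣ) → (M → ℂ)}
  {δ : (↥(W₁.subgroupOf M ⊔ W₂.subgroupOf M) →* ℂˣ) → ℂ}

/-- `X ψ`, the sum of the `μ (φψ)`. -/
noncomputable abbrev col (μ : (↥(W₁.subgroupOf M ⊔ W₂.subgroupOf M) →* ℂˣ) → (M → ℂ))
    (K : Subgroup M) (ψ : ↥(W₁ ⊔ W₂) →* ℂˣ) : M → ℂ :=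
  Cfsg.indFun K (IsChars.theta μ K (pull ψ))

/-- The members of `inducedIrrAbove K ⊥` are irreducible or some `X ψ` with `ψ ≠ 1`. -/
theorem cases_member (h : Hyp M K H W₁ W₂ A R)
    (hc : IsChars (W₁.subgroupOf M) (W₂.subgroupOf M) μ δ) {χ : M → ℂ}
    (hχ : χ ∈ Cfsg.inducedIrrAbove K ⊥) :
    Cfsg.IsIrrCharacter M χ ∨ ∃ ψ : ↥(W₁ ⊔ W₂) →* ℂˣ, IsQ ψ ∧ ψ ≠ 1 ∧ χ = col μ K ψ := by
  haveI := h.K_normal
  obtain ⟨θ, hθ, hθ1, -, rfl⟩ := hχ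
  refine (hc.irr_or_theta h.plike hθ).imp id ?_
  rintro ⟨ψ', hψ', rfl⟩
  obtain ⟨ψ, rfl⟩ := (pull_bijective h.le₁ h.le₂).2 ψ'
  refine ⟨ψ, (isQ_pull h.le₁ h.le₂).1 hψ', fun e => hθ1 ?_, rfl⟩
  rw [e, pull_one, hc.theta_one h.plike]

theorem vanish_off (h : Hyp M K H W₁ W₂ A R) {χ : M → ℂ}
    (hχ : χ ∈ Cfsg.inducedIrrAbove K ⊥) {g : M} (hg : g ∉ K) : χ g = 0 := by
  haveI := h.K_normal
  obtain ⟨θ, -, -, -, rfl⟩ := hχ
  exact indFun_eq_zero_of_not_mem_normal K _ hg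

theorem col_not_irr (h : Hyp M K H W₁ W₂ A R)
    (hc : IsChars (W₁.subgroupOf M) (W₂.subgroupOf M) μ δ) {ψ : ↥(W₁ ⊔ W₂) →* ℂˣ} (hψ : IsQ ψ) :
    ¬ Cfsg.IsIrrCharacter M (col μ K ψ) := by
  haveI := h.K_normal
  exact hc.ind_theta_not_irr h.plike ((isQ_pull h.le₁ h.le₂).2 hψ)

theorem col_character (h : Hyp M K H W₁ W₂ A R)
    (hc : IsChars (W₁.subgroupOf M) (W₂.subgroupOf M) μ δ) (ψ : ↥(W₁ ⊔ W₂) →* ℂˣ) :
    Cfsg.IsCharacter M (col μ K ψ) := by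
  classical
  haveI := finite_hom (G := G) (W₁ := W₁) (W₂ := W₂)
  haveI := Fintype.ofFinite (↥(W₁ ⊔ W₂) →* ℂˣ)
  rw [col, h.ind_pull hc]
  exact isCharacter_sum _ fun φ _ => IsCharacter_of_isIrrCharacter (hc.irr _)

theorem col_conj (h : Hyp M K H W₁ W₂ A R)
    (hc : IsChars (W₁.subgroupOf M) (W₂.subgroupOf M) μ δ) (ψ : ↥(W₁ ⊔ W₂) →* ℂˣ) :
    Cfsg.conjFun (col μ K ψ) = col μ K ψ⁻¹ := by
  haveI := h.K_normal
  funext g
  show conj (Cfsg.indFun K (IsChars.theta μ K (pull ψ)) g) = _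
  rw [indFun_conj_fun]
  congr 1
  funext k
  exact congrFun (hc.conj_mu h.plike (pull ψ)).1 (k : M)

theorem inner_col (h : Hyp M K H W₁ W₂ A R)
    (hc : IsChars (W₁.subgroupOf M) (W₂.subgroupOf M) μ δ) {ψ ψ' : ↥(W₁ ⊔ W₂) →* ℂˣ} (hψ : IsQ ψ)
    (hψ' : IsQ ψ') [Decidable (ψ = ψ')] :
    Cfsg.classInner (col μ K ψ) (col μ K ψ') = if ψ = ψ' then (Nat.card W₁ : ℂ) else 0 := by
  classical
  haveI := h.K_normal
  haveI := finite_hom (G := G) (W₁ := W₁) (W₂ := W₂)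
  haveI := Fintype.ofFinite (↥(W₁ ⊔ W₂) →* ℂˣ)
  rw [col, col, h.ind_pull hc, h.ind_pull hc, classInner_sum_left]
  have e : ∀ φ ∈ (Finset.univ.filter fun φ : ↥(W₁ ⊔ W₂) →* ℂˣ => IsP φ),
      Cfsg.classInner (μ (pull (φ * ψ)))
        (∑ φ' : ↥(W₁ ⊔ W₂) →* ℂˣ with IsP φ', μ (pull (φ' * ψ'))) =
        if ψ = ψ' then 1 else 0 := by
    intro φ hφ
    rw [classInner_sum_right]
    have e' : ∀ φ' ∈ (Finset.univ.filter fun φ : ↥(W₁ ⊔ W₂) →* ℂˣ => IsP φ),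
        Cfsg.classInner (μ (pull (φ * ψ))) (μ (pull (φ' * ψ'))) =
          if φ' = φ then (if ψ = ψ' then 1 else 0) else 0 := by
      intro φ' hφ'
      rw [Inner.classInner_irr_eq (hc.irr _) (hc.irr _), ← ite_and]
      refine if_congr ?_ rfl rfl
      rw [hc.inj.eq_iff, (pull_bijective h.le₁ h.le₂).1.eq_iff]
      refine ⟨fun r => ?_, fun r => by rw [r.1, r.2]⟩
      obtain ⟨r1, r2⟩ :=
        pair_inj (Finset.mem_filter.1 hφ).2 (Finset.mem_filter.1 hφ').2 hψ hψ' r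
      exact ⟨r1.symm, r2⟩
    rw [Finset.sum_congr rfl e', Finset.sum_ite_eq', if_pos hφ]
  rw [Finset.sum_congr rfl e, Finset.sum_const, nsmul_eq_mul, card_isP h.selfNormalizing]
  split_ifs <;> simp

theorem irr_ne_mu (h : Hyp M K H W₁ W₂ A R)
    (hc : IsChars (W₁.subgroupOf M) (W₂.subgroupOf M) μ δ) {χ : M → ℂ}
    (hv : ∀ g : M, g ∉ K → χ g = 0) (ω : ↥(W₁.subgroupOf M ⊔ W₂.subgroupOf M) →* ℂˣ) :
    χ ≠ μ ω := by
  haveI := h.K_normal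
  exact hc.ne_of_vanish_off h.plike hv ω

theorem inner_irr_col (h : Hyp M K H W₁ W₂ A R)
    (hc : IsChars (W₁.subgroupOf M) (W₂.subgroupOf M) μ δ) {χ : M → ℂ}
    (hχ : Cfsg.IsIrrCharacter M χ) (hv : ∀ g : M, g ∉ K → χ g = 0) (ψ : ↥(W₁ ⊔ W₂) →* ℂˣ) :
    Cfsg.classInner χ (col μ K ψ) = 0 ∧ Cfsg.classInner (col μ K ψ) χ = 0 := by
  classical
  haveI := finite_hom (G := G) (W₁ := W₁) (W₂ := W₂)
  haveI := Fintype.ofFinite (↥(W₁ ⊔ W₂) →* ℂˣ)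
  have e : Cfsg.classInner χ (col μ K ψ) = 0 := by
    rw [col, h.ind_pull hc, classInner_sum_right]
    refine Finset.sum_eq_zero fun φ _ => ?_
    rw [Inner.classInner_irr_eq hχ (hc.irr _), if_neg (h.irr_ne_mu hc hv _)]
  refine ⟨e, ?_⟩
  rw [← classInner_conj_symm χ (col μ K ψ), e, map_zero]

/-- A non-trivial linear character of the odd group `W` differs from its conjugate. -/
theorem inv_ne (h : Hyp M K H W₁ W₂ A R) {ψ : ↥(W₁ ⊔ W₂) →* ℂˣ} (h1 : ψ ≠ 1) : ψ⁻¹ ≠ ψ := by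
  intro e
  apply h1
  ext w
  have h2 : (ψ w) ^ 2 = 1 := by
    rw [pow_two]
    nth_rewrite 1 [← e]
    rw [MonoidHom.inv_apply, inv_mul_cancel]
  have hn : (ψ w) ^ Nat.card ↥(W₁ ⊔ W₂) = 1 := by rw [← map_pow, pow_card_eq_one', map_one]
  obtain ⟨k, hk⟩ := h.odd_W
  rw [hk, pow_succ, pow_mul, h2, one_pow, one_mul] at hn
  simp [hn]

/-- A member is not real. -/
theorem member_conj_ne (h : Hyp M K H W₁ W₂ A R)
    (hc : IsChars (W₁.subgroupOf M) (W₂.subgroupOf M) μ δ) {χ : M → ℂ}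
    (hχ : χ ∈ Cfsg.inducedIrrAbove K ⊥) : Cfsg.conjFun χ ≠ χ := by
  classical
  haveI := h.K_normal
  rcases h.cases_member hc hχ with hirr | ⟨ψ, hψ, h1, rfl⟩
  · intro e
    have hreal : ∀ g : M, (χ g).im = 0 := fun g => Complex.conj_eq_iff_im.1 (congrFun e g)
    have he := congrArg (fun c : Cfsg.IrrCharacter M => (c : M → ℂ))
      (Cfsg.Agent.Lib.Characters.Indicator.eq_oneChar_of_real h.odd ⟨χ, hirr⟩ hreal)
    obtain ⟨a, -, ha, -⟩ := IsChars.exists_pair h.plike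
    have h0 := h.vanish_off hχ (g := (a : M)) (fun hm => ha ((h.plike.mem_K_iff a).1 hm))
    have := congrFun he (a : M)
    simp [oneChar_apply, h0] at this
  · intro e
    rw [h.col_conj hc] at e
    have hQ : IsQ ψ⁻¹ := fun w hw => by rw [MonoidHom.inv_apply, hψ w hw, inv_one]
    have := h.inner_col hc hψ hψ
    nth_rewrite 1 [← e] at this
    rw [h.inner_col hc hQ hψ, if_neg (h.inv_ne h1), if_pos rfl] at this
    exact (Nat.cast_ne_zero.2 Nat.card_pos.ne' : (Nat.card W₁ : ℂ) ≠ 0) this.symm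

theorem orth_member (h : Hyp M K H W₁ W₂ A R)
    (hc : IsChars (W₁.subgroupOf M) (W₂.subgroupOf M) μ δ) {χ χ' : M → ℂ}
    (hχ : χ ∈ Cfsg.inducedIrrAbove K ⊥) (hχ' : χ' ∈ Cfsg.inducedIrrAbove K ⊥) (hne : χ ≠ χ') :
    Cfsg.classInner χ χ' = 0 := by
  classical
  rcases h.cases_member hc hχ with hirr | ⟨ψ, hψ, -, rfl⟩ <;>
    rcases h.cases_member hc hχ' with hirr' | ⟨ψ', hψ', -, rfl⟩
  · rw [Inner.classInner_irr_eq hirr hirr', if_neg hne]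
  · exact (h.inner_irr_col hc hirr (fun g hg => h.vanish_off hχ hg) ψ').1
  · exact (h.inner_irr_col hc hirr' (fun g hg => h.vanish_off hχ' hg) ψ).2
  · rw [h.inner_col hc hψ hψ', if_neg fun e => hne (by rw [e])]

/-- A member whose inducing character does not contain `H` in its kernel is supported in `A`. -/
theorem supp_not_ker (h : Hyp M K H W₁ W₂ A R) {θ : K → ℂ} (hθ : Cfsg.IsIrrCharacter K θ)
    (hker : ∃ x : K, (x : M) ∈ H ∧ θ x ≠ θ 1) (x : M) (hx1 : x ≠ 1) (hx : (x : G) ∉ A) :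
    Cfsg.indFun K θ x = 0 := by
  haveI := h.K_normal
  haveI := h.H_normal
  by_cases hxK : x ∈ K
  · refine vanish_ind H hθ hker fun n hn e => ?_
    by_contra hn1
    exact hx (h.mem_cent x hxK hx1 ⟨n, hn, hn1, e⟩)
  · exact indFun_eq_zero_of_not_mem_normal K _ hxK

/-- When `K# ⊆ A` every member is supported in `A`. -/
theorem supp_subset (h : Hyp M K H W₁ W₂ A R) (hK : ∀ x : M, x ∈ K → x ≠ 1 → (x : G) ∈ A)
    {χ : M → ℂ} (hχ : χ ∈ Cfsg.inducedIrrAbove K ⊥) (x : M) (hx1 : x ≠ 1) (hx : (x : G) ∉ A) :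
    χ x = 0 :=
  h.vanish_off hχ fun hxK => hx (hK x hxK hx1)

end Cfsg.Agent.Lib.OddOrder.PrimeDade.Hyp
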