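import Cfsg.Agent.Lib.CyclicTI.Count

/-!
# The integer inequality behind Peterfalvi (4.8)
-/

set_option autoImplicit false

namespace Cfsg.Agent.Lib.OddOrder.PrimeDade.Grid

open Finset

variable {α β : Type*} [Fintype α] [Fintype β]

theorem few [DecidableEq α] [DecidableEq β] (d : α × β → ℤ) (z w : α × β)
    (h : ∑ v, d v ^ 2 + 2 * d z - 2 * d w ≤ 0) :
    (univ.filter fun v => d v ≠ 0).card ≤ 4 := by
  set T := univ.filter fun v => v ≠ z ∧ v ≠ w ∧ d v ≠ 0
  have hsub : (univ.filter fun v => d v ≠ 0) ⊆ T ∪ ({z, w} : Finset (α × β)) := fun v hv => by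
    simp only [mem_filter, mem_univ, true_and, mem_union, mem_insert, mem_singleton, T] at hv ⊢
    tauto
  have h1 := (card_le_card hsub).trans (card_union_le _ _)
  have h2 : ({z, w} : Finset (α × β)).card ≤ 2 := card_le_two
  suffices T.card ≤ 2 by omega
  by_cases hzw : z = w
  · subst hzw
    have h0 : ∑ v, d v ^ 2 = 0 := le_antisymm (by linarith) (sum_nonneg fun v _ => sq_nonneg _)
    rw [sum_eq_zero_iff_of_nonneg fun v _ => sq_nonneg _] at h0
    have : T = ∅ := filter_eq_empty_iff.2 fun v _ hv => hv.2.2 (sq_eq_zero_iff.1 (h0 v (mem_univ v)))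
    simp [this]
  have hdis : Disjoint T ({z, w} : Finset (α × β)) := by
    rw [disjoint_left]
    intro v hv hv'
    simp only [mem_filter, mem_univ, true_and, T] at hv
    simp only [mem_insert, mem_singleton] at hv'
    tauto
  have hle : ∑ v ∈ T ∪ ({z, w} : Finset (α × β)), d v ^ 2 ≤ ∑ v, d v ^ 2 :=
    sum_le_sum_of_subset_of_nonneg (subset_univ _) fun v _ _ => sq_nonneg _
  rw [sum_union hdis, sum_pair hzw] at hle
  have hT : (T.card : ℤ) ≤ ∑ v ∈ T, d v ^ 2 := by
    rw [card_eq_sum_ones, Nat.cast_sum]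
    refine sum_le_sum fun v hv => ?_
    have := sq_pos_iff.2 (mem_filter.1 hv).2.2.2
    push_cast
    omega
  have : (T.card : ℤ) ≤ 2 := by nlinarith [sq_nonneg (d z + 1), sq_nonneg (d w - 1)]
  exact_mod_cast this

/-- The only row-plus-column matrix satisfying the inequality is zero. -/
theorem zero (A : α → ℤ) (B : β → ℤ) (hα : 3 ≤ Fintype.card α) (hβ : 3 ≤ Fintype.card β)
    (hne : Fintype.card α + 2 ≤ Fintype.card β ∨ Fintype.card β + 2 ≤ Fintype.card α)
    (z w : α × β)
    (h : ∑ v : α × β, (A v.1 + B v.2) ^ 2 + 2 * (A z.1 + B z.2) - 2 * (A w.1 + B w.2) ≤ 0) :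
    ∀ x y, A x + B y = 0 := by
  classical
  have hfew := few (fun v : α × β => A v.1 + B v.2) z w h
  have key : (∀ x y, A x + B y = 0) ∨ (∃ y₀ a, ∀ x y, A x + B y = if y = y₀ then a else 0) ∨
      ∃ x₀ a, ∀ x y, A x + B y = if x = x₀ then a else 0 := by
    rcases hne with hne | hne
    · rcases CyclicTI.Count.few_nonzero (fun x => (A x : ℂ)) (fun y => (B y : ℂ)) hα hne (by
        refine lt_of_le_of_lt (le_trans (le_of_eq ?_) hfew) (by omega)
        congr 1
        exact filter_congr fun v _ => by norm_cast) with e | ⟨y₀, a, e⟩ | ⟨x₀, a, e⟩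
      · exact Or.inl fun x y => by exact_mod_cast e x y
      · refine Or.inr (Or.inl ⟨y₀, A z.1 + B y₀, fun x y => ?_⟩)
        split_ifs with hy
        · subst hy
          have e1 := (e x y).trans (e z.1 y).symm
          exact_mod_cast e1
        · have e1 := e x y
          rw [if_neg hy] at e1
          exact_mod_cast e1
      · refine Or.inr (Or.inr ⟨x₀, A x₀ + B z.2, fun x y => ?_⟩)
        split_ifs with hx
        · subst hx
          have e2 := e x y
          have e3 := e x z.2
          rw [if_pos rfl] at e2 e3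
          have e4 : (A x : ℂ) + (B y : ℂ) = (A x : ℂ) + (B z.2 : ℂ) := e2.trans e3.symm
          exact_mod_cast e4
        · have e1 := e x y
          rw [if_neg hx] at e1
          exact_mod_cast e1
    · rcases CyclicTI.Count.few_nonzero (fun y => (B y : ℂ)) (fun x => (A x : ℂ)) hβ hne (by
        refine lt_of_le_of_lt (le_trans (le_of_eq ?_) hfew) (by omega)
        refine card_equiv (Equiv.prodComm β α) fun v => ?_
        simp only [mem_filter, mem_univ, true_and, Equiv.prodComm_apply, Prod.fst_swap,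
          Prod.snd_swap]
        norm_cast
        rw [add_comm]) with e | ⟨x₀, a, e⟩ | ⟨y₀, a, e⟩
      · exact Or.inl fun x y => by rw [add_comm]; exact_mod_cast e y x
      · refine Or.inr (Or.inr ⟨x₀, A x₀ + B z.2, fun x y => ?_⟩)
        split_ifs with hx
        · subst hx
          have e2 := (e y x).trans (e z.2 x).symm
          rw [add_comm (A x), add_comm (A x)]
          exact_mod_cast e2
        · have e1 := e y x
          rw [if_neg hx] at e1
          rw [add_comm]
          exact_mod_cast e1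
      · refine Or.inr (Or.inl ⟨y₀, A z.1 + B y₀, fun x y => ?_⟩)
        split_ifs with hy
        · subst hy
          have e2 := e y x
          have e3 := e y z.1
          rw [if_pos rfl] at e2 e3
          have e4 : (B y : ℂ) + (A x : ℂ) = (B y : ℂ) + (A z.1 : ℂ) := e2.trans e3.symm
          rw [add_comm (A x), add_comm (A z.1)]
          exact_mod_cast e4
        · have e1 := e y x
          rw [if_neg hy] at e1
          rw [add_comm]
          exact_mod_cast e1
  have final : ∀ (n : ℕ) (a u v : ℤ), 3 ≤ n → (u = 0 ∨ u = a) → (v = 0 ∨ v = a) →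
      (n : ℤ) * a ^ 2 + 2 * u - 2 * v ≤ 0 → a = 0 := by
    intro n a u v hn hu hv hh
    by_contra ha
    have hn' : (3 : ℤ) ≤ n := by exact_mod_cast hn
    have : 1 ≤ a ^ 2 := by
      have := sq_pos_iff.2 ha
      omega
    rcases hu with hu | hu <;> rcases hv with hv | hv <;> rw [hu, hv] at hh <;>
      nlinarith [sq_nonneg (a - 1), sq_nonneg (a + 1)]
  rcases key with e | ⟨y₀, a, e⟩ | ⟨x₀, a, e⟩
  · exact e
  · have hs : ∑ v : α × β, (A v.1 + B v.2) ^ 2 = Fintype.card α * a ^ 2 := by
      rw [Fintype.sum_prod_type]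
      simp [e, ite_pow]
    rw [hs] at h
    have ha := final _ a _ _ hα (by rw [e]; split_ifs <;> simp) (by rw [e]; split_ifs <;> simp) h
    intro x y
    rw [e, ha, ite_self]
  · have hs : ∑ v : α × β, (A v.1 + B v.2) ^ 2 = Fintype.card β * a ^ 2 := by
      rw [Fintype.sum_prod_type, Finset.sum_comm]
      simp [e, ite_pow]
    rw [hs] at h
    have ha := final _ a _ _ hβ (by rw [e]; split_ifs <;> simp) (by rw [e]; split_ifs <;> simp) h
    intro x y
    rw [e, ha, ite_self]

end Cfsg.Agent.Lib.OddOrder.PrimeDade.Grid
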