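import Cfsg.Agent.Lib.OddOrder.PrimeDade.Setup
import Cfsg.Agent.Lib.OddOrder.PrimeDade.Grid
import Cfsg.Agent.Lib.Isometry.Coherence

/-!
# Peterfalvi (4.8): the Dade images of the differences of the `μ`'s

`τ (μ (φψ) - μ (φψ')) = δ (η (φψ) - η (φψ'))` when `μ ψ`, `μ ψ'` have the same degree.
-/

set_option autoImplicit false
set_option linter.style.haveILetI false

namespace Cfsg.Agent.Lib.OddOrder.PrimeDade.Hyp

open scoped ComplexConjugate
open Cfsg.Agent.Lib.CyclicTI Cfsg.Agent.Lib.Isometry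
open Cfsg.Agent.Lib.Induced.Basic Cfsg.Agent.Lib.Characters.Basic

universe u

variable {G : Type u} [Group G] [Fintype G] {M : Subgroup G} [Fintype M] {K H : Subgroup M}
  {W₁ W₂ : Subgroup G} {A : Set G} {R : G → Subgroup G}
  {μ : (↥(W₁.subgroupOf M ⊔ W₂.subgroupOf M) →* ℂˣ) → (M → ℂ)}
  {δ : (↥(W₁.subgroupOf M ⊔ W₂.subgroupOf M) →* ℂˣ) → ℂ}

/-- Equal degrees give equal signs. -/
theorem sign_of_degree (h : Hyp M K H W₁ W₂ A R)
    (hc : IsChars (W₁.subgroupOf M) (W₂.subgroupOf M) μ δ)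
    {ω ω' : ↥(W₁.subgroupOf M ⊔ W₂.subgroupOf M) →* ℂˣ} (hdeg : μ ω 1 = μ ω' 1) :
    δ ω = δ ω' := by
  obtain ⟨n, hn⟩ := hc.degree ω
  obtain ⟨n', hn'⟩ := hc.degree ω'
  have hp : 3 ≤ Nat.card (W₁.subgroupOf M) :=
    three_le_card h.plike.ne₁ (odd_factors h.plike.odd).1
  set p := Nat.card (W₁.subgroupOf M)
  have e : δ ω' - δ ω = ((n - n') * (p : ℤ) : ℤ) := by
    push_cast
    linear_combination hn - hn' - hdeg
  by_contra hne
  have hp' : (3 : ℤ) ≤ p := by exact_mod_cast hp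
  have key : ∀ m : ℤ, (m = 2 ∨ m = -2) → (m : ℂ) = ((n - n') * (p : ℤ) : ℤ) → False := by
    intro m hm hmc
    have e' : m = (n - n') * (p : ℤ) := by exact_mod_cast hmc
    rcases eq_or_ne (n - n') 0 with h0 | h0
    · rw [h0, zero_mul] at e'
      omega
    · have h1 : 1 ≤ |n - n'| := Int.one_le_abs h0
      have h2 : |m| = |n - n'| * (p : ℤ) := by rw [e', abs_mul, abs_of_nonneg (by omega : (0 : ℤ) ≤ p)]
      rcases hm with rfl | rfl <;> norm_num at h2 <;> nlinarith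
  rcases hc.sign ω with a | a <;> rcases hc.sign ω' with b | b <;> rw [a, b] at e hne
  · exact hne rfl
  · exact key (-2) (Or.inr rfl) (by rw [← e]; norm_num)
  · exact key 2 (Or.inl rfl) (by rw [← e]; norm_num)
  · exact hne rfl

/-- (4.7): the difference of two `μ`'s of the same degree is supported in `A`. -/
theorem diff_supp (h : Hyp M K H W₁ W₂ A R)
    (hc : IsChars (W₁.subgroupOf M) (W₂.subgroupOf M) μ δ)
    {φ ψ ψ' : ↥(W₁ ⊔ W₂) →* ℂˣ} (hφ : IsP φ) (hψ : IsQ ψ) (hψ' : IsQ ψ') (h1 : ψ ≠ 1)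
    (h1' : ψ' ≠ 1) (hdeg : μ (pull ψ) 1 = μ (pull ψ') 1) {x : M} (hx : (x : G) ∉ A) :
    μ (pull (φ * ψ)) x - μ (pull (φ * ψ')) x = 0 := by
  haveI := h.K_normal
  haveI := h.H_normal
  have hP := (isP_pull h.le₁ h.le₂).2 hφ
  have hQ := (isQ_pull h.le₁ h.le₂).2 hψ
  have hQ' := (isQ_pull h.le₁ h.le₂).2 hψ'
  rw [pull_mul, pull_mul]
  by_cases hx1 : x = 1
  · rw [hx1, hc.one_eq h.plike hP, hc.one_eq h.plike hP, hdeg, sub_self]
  by_cases hxK : x ∈ K
  · rw [hc.agree h.plike hP _ hxK, hc.agree h.plike hP _ hxK]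
    have hfree : ∀ n ∈ H, n * x = x * n → n = 1 := fun n hn e => by
      by_contra hn1
      exact hx (h.mem_cent x hxK hx1 ⟨n, hn, hn1, e⟩)
    have v : ∀ {χ : ↥(W₁ ⊔ W₂) →* ℂˣ}, IsQ χ → χ ≠ 1 → μ (pull χ) x = 0 := by
      intro χ hχ hχ1
      have hne : pull (M := M) χ ≠ 1 := fun e =>
        hχ1 ((pull_bijective h.le₁ h.le₂).1 (by rw [e, pull_one]))
      exact vanish_theta H (hc.theta_irr h.plike (pull χ))
        (hc.theta_ker h.plike H h.H_le h.le_H ((isQ_pull h.le₁ h.le₂).2 hχ) hne)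
        (x := ⟨x, hxK⟩) hfree
    rw [v hψ h1, v hψ' h1', sub_self]
  · obtain ⟨g, w, hw, e⟩ := h.plike.exists_conj_mem hxK
    rw [← hc.classFun _ x g, ← hc.classFun (pull φ * pull ψ') x g, e, hc.value _ w hw,
      hc.value _ w hw, hc.sign_eq hP, hc.sign_eq hP, h.sign_of_degree hc hdeg]
    by_cases hw1 : (w : M) ∈ W₁.subgroupOf M
    · simp [hQ w hw1, hQ' w hw1]
    · exfalso
      have hwA : (((w : M) : G)) ∈ A :=
        h.mem_cyclic _ (toG M W₁ W₂ w).2 (fun hm => hw1 hm) (fun hm => hw hm)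
      have := h.dade.conj_mem ((g⁻¹ : M) : G) (g⁻¹ : M).2 _ hwA
      rw [← e] at this
      exact hx (by simpa [mul_assoc] using this)

/-- (4.8). -/
theorem tau_diff (h : Hyp M K H W₁ W₂ A R)
    (hc : IsChars (W₁.subgroupOf M) (W₂.subgroupOf M) μ δ)
    {η : (↥(W₁ ⊔ W₂) →* ℂˣ) → (G → ℂ)} (hη : Cfsg.IsCyclicTIFamily W₁ W₂ η)
    {φ ψ ψ' : ↥(W₁ ⊔ W₂) →* ℂˣ} (hφ : IsP φ) (hψ : IsQ ψ) (hψ' : IsQ ψ') (h1 : ψ ≠ 1)
    (h1' : ψ' ≠ 1) (hdeg : μ (pull ψ) 1 = μ (pull ψ') 1) :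
    Cfsg.dadeIsometry A M R (μ (pull (φ * ψ)) - μ (pull (φ * ψ'))) =
      δ (pull ψ) • (η (φ * ψ) - η (φ * ψ')) := by
  classical
  haveI := h.K_normal
  have hW := h.selfNormalizing
  haveI := finite_hom (G := G) (W₁ := W₁) (W₂ := W₂)
  haveI := Fintype.ofFinite (↥(W₁ ⊔ W₂) →* ℂˣ)
  by_cases hψψ : ψ = ψ'
  · subst hψψ
    funext g
    simp [Cfsg.dadeIsometry]
  set a := φ * ψ with hadef
  set b := φ * ψ' with hbdef
  have hab : a ≠ b := fun e => hψψ (mul_left_cancel e)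
  have hs : δ (pull ψ) = δ (pull ψ') := h.sign_of_degree hc hdeg
  set s := δ (pull ψ) with hsdef
  have hs2 : s * s = 1 := hc.sign_sq _
  set T : M → ℂ := μ (pull a) - μ (pull b) with hT
  have hTA : ∀ x : M, (x : G) ∉ A → T x = 0 := fun x hx =>
    h.diff_supp hc hφ hψ hψ' h1 h1' hdeg hx
  have hTgen : Cfsg.IsGeneralizedCharacter M T :=
    Inner.gen_sub (Inner.gen_of_irr (hc.irr _)) (Inner.gen_of_irr (hc.irr _))
  set τT := Cfsg.dadeIsometry A M R T with hτT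
  have hτgen : Cfsg.IsGeneralizedCharacter G τT := DadeGen.gen_dade h.dade hTgen hTA
  have hTT : Cfsg.classInner T T = 2 := by
    have hne : pull (M := M) a ≠ pull b := fun e => hab ((pull_bijective h.le₁ h.le₂).1 e)
    simp only [hT, classInner_sub_left, classInner_sub_right,
      Inner.classInner_irr_eq (hc.irr _) (hc.irr _), hc.inj.eq_iff, if_neg hne, if_neg (Ne.symm hne),
      if_true]
    norm_num
  have hρρ : Cfsg.classInner τT τT = 2 := by
    rw [hτT, Dade.classInner_dade_dade h.dade (Inner.gen_classFun hTgen) hTA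
      (Inner.gen_classFun hTgen), hTT]
  set ρ : G → ℂ := s • τT with hρdef
  have hsc : conj s = s := hc.sign_conj _
  have hρn : Cfsg.classInner ρ ρ = 2 := by
    rw [hρdef, classInner_smul_left, classInner_smul_right, hsc, hρρ, ← mul_assoc, hs2, one_mul]
  have hρgen : Cfsg.IsGeneralizedCharacter G ρ := by
    rcases hc.sign (pull ψ) with e | e
    · rw [hρdef, hsdef, e, one_smul]
      exact hτgen
    · rw [hρdef, hsdef, e, neg_one_smul]
      exact Inner.gen_neg hτgen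
  choose c hcc using fun ω => Inner.classInner_gen_int hρgen (Inner.gen_of_signed (hη.irr_or_neg ω))
  -- the difference with the expected value
  set D : G → ℂ := ρ - (η a - η b) with hD
  have hDcl : Cfsg.IsClassFunction G D :=
    Inner.gen_classFun (Inner.gen_sub hρgen (Inner.gen_sub (Inner.gen_of_signed (hη.irr_or_neg a))
      (Inner.gen_of_signed (hη.irr_or_neg b))))
  have hDV : ∀ w : ↥(W₁ ⊔ W₂), (w : G) ∉ W₁ → (w : G) ∉ W₂ → D w = 0 := by
    intro w hw1 hw2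
    obtain ⟨x, hx⟩ := (toG_bijective h.le₁ h.le₂).2 w
    have hxA : (((x : M) : G)) ∈ A := by
      rw [← toG_coe, hx]
      exact h.mem_cyclic _ w.2 hw1 hw2
    have hx2 : (x : M) ∉ W₂.subgroupOf M := fun hm => hw2 (by
      rw [← hx]; exact hm)
    have e1 : τT (w : G) = T (x : M) := by
      rw [← hx, hτT]
      have := Dade.dadeIsometry_coset h.dade (Inner.gen_classFun hTgen) (u := 1) (x : M) hxA
        (R _).one_mem
      rwa [mul_one] at this
    have hev : ∀ ω : ↥(W₁ ⊔ W₂) →* ℂˣ, μ (pull ω) (x : M) = δ (pull ω) * (ω w : ℂ) := by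
      intro ω
      rw [hc.value _ x hx2, ← hx]
      rfl
    have hP := (isP_pull h.le₁ h.le₂).2 hφ
    simp only [hD, hρdef, Pi.sub_apply, Pi.smul_apply, smul_eq_mul, e1, hT,
      hev, hadef, hbdef]
    rw [pull_mul, pull_mul, hc.sign_eq hP, hc.sign_eq hP, ← hs, ← hsdef]
    rw [hη.eq_on (φ * ψ) w hw1 hw2, hη.eq_on (φ * ψ') w hw1 hw2]
    linear_combination (((φ * ψ) w : ℂ) - ((φ * ψ') w : ℂ)) * hs2
  set e : (↥(W₁ ⊔ W₂) →* ℂˣ) → ℤ := fun ω => (if ω = a then 1 else 0) - (if ω = b then 1 else 0)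
    with he
  set d : (↥(W₁ ⊔ W₂) →* ℂˣ) → ℤ := fun ω => c ω - e ω with hd
  have hDd : ∀ ω, Cfsg.classInner D (η ω) = (d ω : ℂ) := by
    intro ω
    simp only [hD, classInner_sub_left, hcc, hη.orthonormal, hd, he, Int.cast_sub, Int.cast_ite,
      Int.cast_one, Int.cast_zero, eq_comm (a := ω)]
    congr
  have hrel : ∀ f g, IsP f → IsQ g → d (f * g) + d 1 = d f + d g := by
    intro f g hf hg
    have := coef_relation hW hη hDcl hDV hf hg
    rw [hDd, hDd, hDd, hDd] at this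
    exact_mod_cast this
  -- Bessel
  have hB : ∑ ω, c ω ^ 2 ≤ 2 := by
    have hb := Coherence.bessel (Finset.univ) η (fun _ => 1) (fun ω => (c ω : ℝ)) ρ
      (fun i _ j _ hij => by rw [hη.orthonormal, if_neg hij])
      (fun i _ => by rw [hη.orthonormal, if_pos rfl]; simp) (fun i _ => one_ne_zero)
      (fun i _ => by rw [hcc]; simp)
    have := congrArg Complex.re hb
    rw [hρn] at this
    simp only [div_one, Complex.sub_re, Complex.re_ofNat, Complex.ofReal_re] at this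
    have hnn := Inner.classInner_self_re_nonneg
      (ρ - ∑ ω, (((c ω : ℝ)) : ℂ) • η ω)
    rw [this] at hnn
    have : ((∑ ω, c ω ^ 2 : ℤ) : ℝ) ≤ ((2 : ℤ) : ℝ) := by push_cast; linarith
    exact_mod_cast this
  have hsum : ∑ ω, d ω ^ 2 + 2 * d a - 2 * d b ≤ 0 := by
    have e1 : ∀ ω, c ω ^ 2 = d ω ^ 2 + (2 * d ω + 1) * (if ω = a then 1 else 0)
        + (1 - 2 * d ω) * (if ω = b then 1 else 0) := by
      intro ω
      have hcd : c ω = d ω + e ω := by simp [hd]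
      rw [hcd, he]
      rcases eq_or_ne ω a with r | r <;> rcases eq_or_ne ω b with r' | r'
      · exact absurd (r.symm.trans r') hab
      · simp only [r, hab, if_true, if_false]; ring
      · simp only [r', Ne.symm hab, if_true, if_false]; ring
      · simp only [r, r', if_false]; ring
    rw [Finset.sum_congr rfl fun ω _ => e1 ω] at hB
    simp only [Finset.sum_add_distrib, mul_ite, mul_one, mul_zero, Finset.sum_ite_eq',
      Finset.mem_univ, if_true] at hB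
    linarith
  -- the grid
  let P := {f : ↥(W₁ ⊔ W₂) →* ℂˣ // IsP f}
  let Q := {f : ↥(W₁ ⊔ W₂) →* ℂˣ // IsQ f}
  let pr : P × Q → (↥(W₁ ⊔ W₂) →* ℂˣ) := fun v => v.1.1 * v.2.1
  have hpr : Function.Bijective pr := by
    refine ⟨fun u v hh => ?_, fun ω => ?_⟩
    · obtain ⟨r1, r2⟩ := pair_inj u.1.2 v.1.2 u.2.2 v.2.2 hh
      exact Prod.ext (Subtype.ext r1) (Subtype.ext r2)
    · obtain ⟨f, g, hf, hg, r⟩ := exists_decomp hW ω
      exact ⟨⟨⟨f, hf⟩, ⟨g, hg⟩⟩, r.symm⟩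
  let A' : P → ℤ := fun f => d f.1 - d 1
  let B' : Q → ℤ := fun g => d g.1
  have hAB : ∀ v, A' v.1 + B' v.2 = d (pr v) := fun v => by
    have := hrel v.1.1 v.2.1 v.1.2 v.2.2
    simp only [A', B', pr]
    omega
  have hPc : Fintype.card P = Nat.card W₁ := by rw [Fintype.card_subtype, card_isP hW]
  have hQc : Fintype.card Q = Nat.card W₂ := by rw [Fintype.card_subtype, card_isQ hW]
  obtain ⟨o1, o2⟩ := odd_factors h.odd_W
  have hzero := Grid.zero A' B' (hPc ▸ three_le_card hW.1 o1) (hQc ▸ three_le_card hW.2.1 o2)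
    (by
      rw [hPc, hQc]
      have := card_ne_card hW
      obtain ⟨i, hi⟩ := o1
      obtain ⟨j, hj⟩ := o2
      omega)
    (⟨φ, hφ⟩, ⟨ψ, hψ⟩) (⟨φ, hφ⟩, ⟨ψ', hψ'⟩) (by
      rw [show A' ⟨φ, hφ⟩ + B' ⟨ψ, hψ⟩ = d a from hAB (⟨φ, hφ⟩, ⟨ψ, hψ⟩),
        show A' ⟨φ, hφ⟩ + B' ⟨ψ', hψ'⟩ = d b from hAB (⟨φ, hφ⟩, ⟨ψ', hψ'⟩)]
      simp only [hAB]
      rw [hpr.sum_comp (fun ω => d ω ^ 2)]
      exact hsum)
  have hd0 : ∀ ω, d ω = 0 := fun ω => by
    obtain ⟨v, rfl⟩ := hpr.2 ω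
    rw [← hAB]
    exact hzero _ _
  have hρa : Cfsg.classInner ρ (η a) = 1 := by
    have := hd0 a
    simp only [hd, he, if_neg hab, if_true, sub_zero, sub_eq_zero] at this
    rw [hcc, this, Int.cast_one]
  have hρb : Cfsg.classInner ρ (η b) = -1 := by
    have := hd0 b
    simp only [hd, he, if_neg (Ne.symm hab), if_true, zero_sub, sub_eq_zero] at this
    rw [hcc, this, Int.cast_neg, Int.cast_one]
  have hDD : Cfsg.classInner D D = 0 := by
    have c1 := classInner_conj_symm ρ (η a)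
    have c2 := classInner_conj_symm ρ (η b)
    simp only [hD, classInner_sub_left, classInner_sub_right, hρn, hρa, hρb, ← c1, ← c2,
      hη.orthonormal, if_neg hab, if_neg (Ne.symm hab), if_true, map_one, map_neg]
    norm_num
  have h0 := sub_eq_zero.1 (Inner.eq_zero_of_classInner_self hDD)
  rw [hρdef] at h0
  rw [← h0, smul_smul, hs2, one_smul]

open scoped Classical in
theorem ind_pull [Fintype (↥(W₁ ⊔ W₂) →* ℂˣ)] (h : Hyp M K H W₁ W₂ A R)
    (hc : IsChars (W₁.subgroupOf M) (W₂.subgroupOf M) μ δ) (ψ : ↥(W₁ ⊔ W₂) →* ℂˣ) :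
    Cfsg.indFun K (IsChars.theta μ K (pull ψ)) =
      ∑ φ : ↥(W₁ ⊔ W₂) →* ℂˣ with IsP φ, μ (pull (φ * ψ)) := by
  haveI := h.K_normal
  haveI := finite_hom (G := M) (W₁ := W₁.subgroupOf M) (W₂ := W₂.subgroupOf M)
  haveI := Fintype.ofFinite (↥(W₁.subgroupOf M ⊔ W₂.subgroupOf M) →* ℂˣ)
  rw [hc.ind_theta h.plike]
  refine (Finset.sum_bijective pull (pull_bijective h.le₁ h.le₂) (fun φ => ?_) fun φ _ => ?_).symm
  · simp only [Finset.mem_filter, Finset.mem_univ, true_and]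
    exact (isP_pull h.le₁ h.le₂).symm
  · rw [pull_mul]

open scoped Classical in
/-- (4.8), summed over a column. -/
theorem tau_ind_diff [Fintype (↥(W₁ ⊔ W₂) →* ℂˣ)] (h : Hyp M K H W₁ W₂ A R)
    (hc : IsChars (W₁.subgroupOf M) (W₂.subgroupOf M) μ δ)
    {η : (↥(W₁ ⊔ W₂) →* ℂˣ) → (G → ℂ)} (hη : Cfsg.IsCyclicTIFamily W₁ W₂ η)
    {ψ ψ' : ↥(W₁ ⊔ W₂) →* ℂˣ} (hψ : IsQ ψ) (hψ' : IsQ ψ') (h1 : ψ ≠ 1)
    (h1' : ψ' ≠ 1) (hdeg : μ (pull ψ) 1 = μ (pull ψ') 1) :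
    Cfsg.dadeIsometry A M R (Cfsg.indFun K (IsChars.theta μ K (pull ψ)) -
        Cfsg.indFun K (IsChars.theta μ K (pull ψ'))) =
      ∑ φ : ↥(W₁ ⊔ W₂) →* ℂˣ with IsP φ, δ (pull ψ) • (η (φ * ψ) - η (φ * ψ')) := by
  rw [h.ind_pull hc, h.ind_pull hc, ← Finset.sum_sub_distrib, dade_sum]
  exact Finset.sum_congr rfl fun φ hφ =>
    h.tau_diff hc hη (Finset.mem_filter.1 hφ).2 hψ hψ' h1 h1' hdeg

end Cfsg.Agent.Lib.OddOrder.PrimeDade.Hyp
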